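import Groth.Agent.Frob53.PowSheaf

/-!
# Semilinearity of the Frobenius action on cohomology; the split case
-/

set_option autoImplicit false
universe u

open CategoryTheory CategoryTheory.Limits AlgebraicGeometry Opposite CategoryTheory.Abelian
  TopologicalSpace

namespace Groth.Agent.Frob53

/-- An injective Frobenius-semilinear endomorphism of a finite-dimensional space over a perfect
field is bijective. -/
theorem bijective_of_injective_semilinear (p : ℕ) [Fact p.Prime] (k V : Type u) [Field k]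
    [CharP k p] [PerfectRing k p] [AddCommGroup V] [Module k V] [Module.Finite k V] (f : V →+ V)
    (hf : ∀ (a : k) (x : V), f (a • x) = a ^ p • f x) (hinj : Function.Injective f) :
    Function.Bijective f := by
  let b := Module.finBasis k V
  have key : ∀ (c : Fin (Module.finrank k V) → k), ∑ i, c i • f (b i) =
      f (∑ i, (frobeniusEquiv k p).symm (c i) • b i) := fun c => by
    rw [map_sum]
    exact Finset.sum_congr rfl fun i _ => by rw [hf, frobeniusEquiv_symm_pow_p]
  have hli : LinearIndependent k fun i => f (b i) := Fintype.linearIndependent_iff.2 fun c hc i => by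
    rw [key] at hc
    have := (Fintype.linearIndependent_iff.1 b.linearIndependent)
      (fun i => (frobeniusEquiv k p).symm (c i)) (hinj (hc.trans (map_zero f).symm)) i
    simpa using this
  have htop := hli.span_eq_top_of_card_eq_finrank' (Fintype.card_fin _)
  refine ⟨hinj, fun y => ?_⟩
  obtain ⟨c, hc⟩ := (Submodule.mem_span_range_iff_exists_fun k).1 (htop.ge (Submodule.mem_top (x := y)))
  exact ⟨_, (key c).symm.trans hc⟩

variable {X : Scheme.{u}}

theorem smulAb_pow (p : ℕ) (φ : Coh.toAb (Coh.structureModule X) ⟶ Coh.toAb (Coh.structureModule X))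
    (hφ : ∀ (U : X.Opens) (t : Γ(X, U)), φ.hom.app (op U) t = t ^ p) (r : Coh.Γtop X) :
    Coh.smulAb (Coh.structureModule X) r ≫ φ = φ ≫ Coh.smulAb (Coh.structureModule X) (r ^ p) := by
  ext U m
  change φ.hom.app (op U.unop)
      (@id Γ(X, U.unop) (Coh.resTop X U r) * @id Γ(X, U.unop) m : Γ(X, U.unop)) =
    @id Γ(X, U.unop) (Coh.resTop X U (r ^ p)) *
      @id Γ(X, U.unop) (φ.hom.app (op U.unop) (@id Γ(X, U.unop) m))
  rw [map_pow]
  have h1 := hφ U.unop (@id Γ(X, U.unop) (Coh.resTop X U r) * @id Γ(X, U.unop) m)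
  have h2 := hφ U.unop m
  rw [mul_pow] at h1
  refine Eq.trans h1 ?_
  exact congrArg (fun z : Γ(X, U.unop) => @id Γ(X, U.unop) (Coh.resTop X U r) ^ p * z) h2.symm

theorem hmap_smul (p : ℕ) (φ : Coh.toAb (Coh.structureModule X) ⟶ Coh.toAb (Coh.structureModule X))
    (hφ : ∀ (U : X.Opens) (t : Γ(X, U)), φ.hom.app (op U) t = t ^ p)
    (A : Type u) [CommRing A] [X.Over (Spec (CommRingCat.of A))] (i : ℕ) (a : A)
    (x : Coh.HH X (Coh.structureModule X) i) :
    Sheaf.H.map φ i (a • x) =
      (a ^ p • (show Coh.HH X (Coh.structureModule X) i from Sheaf.H.map φ i x) :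
        Coh.HH X (Coh.structureModule X) i) := by
  rw [Crv77.smul_eq_map, Crv77.smul_eq_map, map_pow, ← Sheaf.H.map_comp_apply,
    ← Sheaf.H.map_comp_apply, smulAb_pow p φ hφ]

/-- A split monomorphism bijective on cohomology has acyclic cokernel. -/
theorem subsingleton_cokernel_of_split
    {F G : Sheaf (Opens.grothendieckTopology X) AddCommGrpCat.{u}} (φ : F ⟶ G) [Mono φ]
    (hb : ∀ i : ℕ, Function.Bijective (Sheaf.H.map φ i)) (i : ℕ) :
    Subsingleton (Sheaf.H (cokernel φ) i) := by
  let S : ShortComplex (Sheaf (Opens.grothendieckTopology X) AddCommGrpCat.{u}) :=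
    ShortComplex.mk φ (cokernel.π φ) (cokernel.condition φ)
  have hS : S.ShortExact :=
    { exact := S.exact_of_g_is_cokernel (cokernelIsCokernel φ) }
  refine subsingleton_of_forall_eq 0 fun z => ?_
  have hδ : Crv77.gδ.{u} (Crv77.srcObj X) hS i z = 0 := by
    refine (hb (i + 1)).1 ?_
    rw [map_zero]
    exact ((Crv77.gexact₁.{u} (Crv77.srcObj X) hS i _).2 ⟨z, rfl⟩)
  obtain ⟨y, hy⟩ := (Crv77.gexact₃.{u} (Crv77.srcObj X) hS i z).1 hδ
  obtain ⟨x, rfl⟩ := (hb i).2 y
  exact hy.symm.trans (Crv77.ext_comp_zero' x (cokernel.condition φ))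

theorem bijective_of_split (p : ℕ) [Fact p.Prime] (k : Type u) [Field k] [CharP k p]
    [PerfectRing k p] [X.Over (Spec (CommRingCat.of k))] (i : ℕ)
    [Module.Finite k (Coh.HH X (Coh.structureModule X) i)]
    (φ : Coh.toAb (Coh.structureModule X) ⟶ Coh.toAb (Coh.structureModule X))
    (hφ : ∀ (U : X.Opens) (t : Γ(X, U)), φ.hom.app (op U) t = t ^ p)
    (s : Coh.toAb (Coh.structureModule X) ⟶ Coh.toAb (Coh.structureModule X))
    (hs : φ ≫ s = 𝟙 _) : Function.Bijective (Sheaf.H.map φ i) := by
  refine bijective_of_injective_semilinear p k (Coh.HH X (Coh.structureModule X) i)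
    (Sheaf.H.map φ i) (hmap_smul p φ hφ k i) ?_
  intro a b hab
  have := congrArg (Sheaf.H.map s i) hab
  rwa [← Sheaf.H.map_comp_apply, ← Sheaf.H.map_comp_apply, hs, Sheaf.H.map_id_apply,
    Sheaf.H.map_id_apply] at this

end Groth.Agent.Frob53
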