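import Mathlib
import Groth.Prelude.Def_FEt
import Groth.Prelude.Def_Pi1

/-!
# Artin–Schreier covers glued from local equations
-/

set_option autoImplicit false
universe u

open CategoryTheory CategoryTheory.Limits AlgebraicGeometry Opposite Polynomial

namespace Groth.Agent.Frob53

variable {p : ℕ} [hp : Fact p.Prime]

section Ring

variable {R : Type u} [CommRing R] (hR : (p : R) = 0) (g : R)

/-- `T ^ p - T + g`. -/
noncomputable def asPoly (p : ℕ) (g : R) : R[X] := X ^ p - (X - C g)

theorem asPoly_monic : (asPoly p g).Monic :=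
  monic_X_pow_sub (lt_of_le_of_lt (degree_X_sub_C_le g) (by exact_mod_cast hp.out.one_lt))

theorem finite_asAlgebra : Module.Finite R (AdjoinRoot (asPoly p g)) :=
  (AdjoinRoot.powerBasis' (asPoly_monic g)).finite

omit hp in
theorem eval₂_asPoly {S : Type*} [CommRing S] (f : R →+* S) (x : S) :
    (asPoly p g).eval₂ f x = x ^ p - (x - f g) := by
  simp [asPoly]

omit hp in
theorem root_asPoly : AdjoinRoot.root (asPoly p g) ^ p -
    (AdjoinRoot.root (asPoly p g) - AdjoinRoot.of (asPoly p g) g) = 0 :=
  (eval₂_asPoly g _ _).symm.trans (AdjoinRoot.eval₂_root _)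

include hR in
theorem etale_asAlgebra : Algebra.Etale R (AdjoinRoot (asPoly p g)) := by
  have hd : derivative (asPoly p g) = -1 := by
    simp [asPoly, derivative_X_pow, hR]
  let P : StandardEtalePair R := ⟨asPoly p g, asPoly_monic g, 1, -1, 0, 0, by rw [hd]; simp⟩
  let e : AdjoinRoot (asPoly p g) ≃ₐ[R]
      Localization.Away (AdjoinRoot.mk (asPoly p g) P.g) :=
    (IsLocalization.atUnits (AdjoinRoot (asPoly p g))
      (Submonoid.powers (AdjoinRoot.mk (asPoly p g) P.g))
      (S := Localization.Away (AdjoinRoot.mk (asPoly p g) P.g)) (by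
        rintro x ⟨n, rfl⟩
        simp [P])).restrictScalars R
  exact Algebra.Etale.of_equiv (P.equivAwayAdjoinRoot.trans e.symm)

include hR in
theorem as_sub_pow (a b : R) : (a - b) ^ p = a ^ p - b ^ p := by
  rcases subsingleton_or_nontrivial R with h | h
  · exact Subsingleton.elim _ _
  · have : CharP R p := (CharP.charP_iff_prime_eq_zero hp.out).2 hR
    exact sub_pow_char a b

include hR in
theorem as_add_pow (a b : R) : (a + b) ^ p = a ^ p + b ^ p := by
  rcases subsingleton_or_nontrivial R with h | h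
  · exact Subsingleton.elim _ _
  · have : CharP R p := (CharP.charP_iff_prime_eq_zero hp.out).2 hR
    exact add_pow_char a b p

end Ring

variable {X : Scheme.{u}}

/-- Local data for an Artin–Schreier cover: equations `T ^ p - T + g W` on a basis of affine opens,
compared by translations. -/
structure ASData (p : ℕ) (X : Scheme.{u}) where
  good : X.affineOpens → Prop
  basis : TopologicalSpace.Opens.IsBasis (Set.range fun W : {W : X.affineOpens // good W} => W.1.1)
  g : ∀ W : {W : X.affineOpens // good W}, Γ(X, W.1.1)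
  c : ∀ {W W' : {W : X.affineOpens // good W}}, W.1.1 ≤ W'.1.1 → Γ(X, W.1.1)
  natCast_eq_zero : ∀ W : {W : X.affineOpens // good W}, (p : Γ(X, W.1.1)) = 0
  c_pow : ∀ {W W' : {W : X.affineOpens // good W}} (h : W.1.1 ≤ W'.1.1),
    g W - X.presheaf.map (homOfLE h).op (g W') = c h ^ p - c h
  c_refl : ∀ W : {W : X.affineOpens // good W}, c (le_refl W.1.1) = 0
  c_trans : ∀ {W W' W'' : {W : X.affineOpens // good W}} (h : W.1.1 ≤ W'.1.1) (h' : W'.1.1 ≤ W''.1.1),
    c (h.trans h') = c h + X.presheaf.map (homOfLE h).op (c h')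

variable (D : ASData p X)

/-- The index of the local data. -/
abbrev ASData.Idx : Type u := {W : X.affineOpens // D.good W}

/-- The cover by the opens of the local data. -/
@[simps I₀ X f]
noncomputable def ASData.cover : X.OpenCover where
  I₀ := D.Idx
  X W := W.1.1
  f W := W.1.1.ι
  mem₀ := by
    rw [Scheme.presieve₀_mem_precoverage_iff]
    refine ⟨fun x ↦ ?_, inferInstance⟩
    obtain ⟨_, ⟨W, rfl⟩, hx, -⟩ :=
      TopologicalSpace.Opens.isBasis_iff_nbhd.mp D.basis (TopologicalSpace.Opens.mem_top x)
    exact ⟨W, by simpa using hx⟩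

instance : Preorder D.cover.I₀ := inferInstanceAs <| Preorder D.Idx

set_option backward.isDefEq.respectTransparency.types false in
set_option backward.defeqAttrib.useBackward true in
noncomputable instance : Scheme.Cover.LocallyDirected D.cover :=
  .ofIsBasisOpensRange (by intros; simp; rfl)
    (show TopologicalSpace.Opens.IsBasis (Set.range fun W : D.Idx => W.1.1.ι.opensRange) by
      simpa using D.basis)

theorem ASData.trans_ι {W W' : D.Idx} (f : @Quiver.Hom D.cover.I₀ _ W W') :
    (D.cover.trans f : (W.1.1 : Scheme.{u}) ⟶ W'.1.1) ≫ W'.1.1.ι = W.1.1.ι :=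
  D.cover.trans_map f

/-- The algebra of the equation over one open. -/
noncomputable abbrev ASData.alg (W : D.Idx) : CommRingCat.{u} := CommRingCat.of (AdjoinRoot (asPoly p (D.g W)))

/-- Its structure map. -/
noncomputable abbrev ASData.str (W : D.Idx) : Γ(X, W.1.1) ⟶ D.alg W :=
  CommRingCat.ofHom (AdjoinRoot.of (asPoly p (D.g W)))

/-- Restriction followed by translation. -/
noncomputable def ASData.transl {W W' : D.Idx} (h : W.1.1 ≤ W'.1.1) : D.alg W' ⟶ D.alg W :=
  CommRingCat.ofHom (AdjoinRoot.lift ((D.str W).hom.comp (X.presheaf.map (homOfLE h).op).hom)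
    (AdjoinRoot.root (asPoly p (D.g W)) + D.str W (D.c h)) (by
      have hroot := root_asPoly (p := p) (D.g W)
      have hz : (p : D.alg W) = 0 := by
        rw [← map_natCast (D.str W).hom, D.natCast_eq_zero, map_zero]
      have hc := congrArg (D.str W).hom (D.c_pow h)
      simp only [map_sub, map_pow] at hc
      rw [eval₂_asPoly, as_add_pow hz]
      simp only [RingHom.comp_apply, CommRingCat.hom_ofHom] at hc ⊢
      linear_combination hroot - hc))

theorem ASData.transl_root {W W' : D.Idx} (h : W.1.1 ≤ W'.1.1) :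
    D.transl h (AdjoinRoot.root (asPoly p (D.g W'))) =
      AdjoinRoot.root (asPoly p (D.g W)) + D.str W (D.c h) := by
  simp [ASData.transl]

@[reassoc]
theorem ASData.str_transl {W W' : D.Idx} (h : W.1.1 ≤ W'.1.1) :
    D.str W' ≫ D.transl h = X.presheaf.map (homOfLE h).op ≫ D.str W := by
  ext a
  simp [ASData.transl, ASData.str]

theorem ASData.alg_ext {W : D.Idx} {Z : CommRingCat.{u}} {a b : D.alg W ⟶ Z}
    (h₁ : D.str W ≫ a = D.str W ≫ b)
    (h₂ : a (AdjoinRoot.root (asPoly p (D.g W))) = b (AdjoinRoot.root (asPoly p (D.g W)))) :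
    a = b := by
  refine CommRingCat.hom_ext (RingHom.ext fun x => ?_)
  induction x using AdjoinRoot.induction_on with
  | ih q =>
    induction q using Polynomial.induction_on' with
    | add q r hq hr => simp [hq, hr]
    | monomial n r =>
      rw [← C_mul_X_pow_eq_monomial, map_mul, map_pow, AdjoinRoot.mk_C, AdjoinRoot.mk_X]
      simp only [map_mul, map_pow]
      rw [h₂]
      exact congrArg (· * _) (congrArg (fun f => f r) h₁)

theorem ASData.isPushout {W W' : D.Idx} (h : W.1.1 ≤ W'.1.1) :
    IsPushout (D.str W') (X.presheaf.map (homOfLE h).op) (D.transl h) (D.str W) := by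
  refine ⟨⟨D.str_transl h⟩, ⟨PushoutCocone.IsColimit.mk _ (fun s => CommRingCat.ofHom
    (AdjoinRoot.lift s.inr.hom (s.inl (AdjoinRoot.root (asPoly p (D.g W'))) - s.inr (D.c h)) ?_))
    (fun s => ?_) (fun s => ?_) (fun s m h₁ h₂ => ?_)⟩⟩
  · have hroot := congrArg s.inl.hom (root_asPoly (p := p) (D.g W'))
    have hz : (p : s.pt) = 0 := by
      rw [← map_natCast s.inr.hom, D.natCast_eq_zero, map_zero]
    have hs : ∀ a, s.inl (D.str W' a) = s.inr (X.presheaf.map (homOfLE h).op a) :=
      fun a => congrArg (fun f => f a) s.condition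
    have hc := congrArg s.inr.hom (D.c_pow h)
    simp only [map_sub, map_pow] at hc
    simp only [map_sub, map_pow, map_zero] at hroot
    rw [eval₂_asPoly, as_sub_pow hz]
    have := hs (D.g W')
    simp only [CommRingCat.hom_ofHom] at this
    linear_combination hroot + hc - this
  · refine D.alg_ext ?_ ?_
    · rw [D.str_transl_assoc]
      refine (congrArg (_ ≫ ·) ?_).trans s.condition.symm
      ext b
      simp [ASData.str]
    · rw [ConcreteCategory.comp_apply, D.transl_root, map_add]
      simp
  · ext b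
    simp [ASData.str]
  · refine D.alg_ext (h₂.trans ?_) ?_
    · ext b
      simp [ASData.str]
    have e₁ := congrArg (fun f => f (AdjoinRoot.root (asPoly p (D.g W')))) h₁
    have e₂ := congrArg (fun f => f (D.c h)) h₂
    simp only [ConcreteCategory.comp_apply, D.transl_root, map_add] at e₁ e₂
    simp only [CommRingCat.hom_ofHom, AdjoinRoot.lift_root]
    rw [← e₁, ← e₂]
    simp

/-- The local covers, as a functor. -/
noncomputable def ASData.functor : D.cover.I₀ ⥤ Scheme.{u} where
  obj W := Spec (D.alg W)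
  map {W W'} f := Spec.map (D.transl (leOfHom f))
  map_id W := by
    rw [← Spec.map_id]
    congr 1
    refine D.alg_ext ?_ ?_
    · rw [D.str_transl]
      ext a
      simp
    · rw [D.transl_root, D.c_refl]
      simp
  map_comp {W W' W''} f f' := by
    rw [← Spec.map_comp]
    congr 1
    refine D.alg_ext ?_ ?_
    · rw [D.str_transl, D.str_transl_assoc, D.str_transl, ← X.presheaf.map_comp_assoc]
      rfl
    · rw [ConcreteCategory.comp_apply, D.transl_root, D.transl_root, map_add, D.transl_root,
        ← ConcreteCategory.comp_apply, D.str_transl, D.c_trans (leOfHom f) (leOfHom f'), map_add]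
      simp [add_assoc]

/-- The structure maps. -/
noncomputable def ASData.natTrans : D.functor ⟶ D.cover.functorOfLocallyDirected where
  app W := Spec.map (D.str W) ≫ W.1.2.isoSpec.inv
  naturality W W' f := by
    show Spec.map (D.transl (leOfHom f)) ≫ Spec.map (D.str W') ≫ W'.1.2.isoSpec.inv =
      (Spec.map (D.str W) ≫ W.1.2.isoSpec.inv) ≫ D.cover.trans f
    rw [← cancel_mono W'.1.1.ι]
    refine Eq.trans ?_ (((Category.assoc _ _ _).trans (congrArg (Spec.map (D.str W) ≫ ·)
      ((congrArg (W.1.2.isoSpec.inv ≫ ·) (D.trans_ι f)).trans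
        (IsAffineOpen.isoSpec_inv_ι W.1.2)))).symm.trans (Category.assoc _ _ _).symm)
    simp only [Category.assoc]
    rw [IsAffineOpen.isoSpec_inv_ι, ← Spec.map_comp_assoc, D.str_transl, Spec.map_comp_assoc,
      IsAffineOpen.map_fromSpec]

theorem ASData.equifibered : D.natTrans.Equifibered := by
  intro W W' f
  have h := isPullback_SpecMap_of_isPushout _ _ _ _ (D.isPushout (leOfHom f))
  refine h.of_iso (Iso.refl _) (Iso.refl _) W.1.2.isoSpec.symm W'.1.2.isoSpec.symm ?_ ?_ ?_ ?_
  · simp [ASData.functor]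
  · exact (Category.id_comp _).symm
  · exact (Category.id_comp _).symm
  · show Spec.map _ ≫ W'.1.2.isoSpec.inv = W.1.2.isoSpec.inv ≫ D.cover.trans f
    rw [← cancel_mono W'.1.1.ι]
    refine Eq.trans ?_ (((congrArg (W.1.2.isoSpec.inv ≫ ·) (D.trans_ι f)).trans
      (IsAffineOpen.isoSpec_inv_ι W.1.2)).symm.trans (Category.assoc _ _ _).symm)
    simp only [Category.assoc]
    rw [IsAffineOpen.isoSpec_inv_ι, IsAffineOpen.map_fromSpec]

/-- The gluing datum. -/
noncomputable def ASData.gluing : D.cover.RelativeGluingData :=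
  ⟨D.functor, D.natTrans, D.equifibered⟩

theorem ASData.finite_app (W : D.cover.I₀) : IsFinite (D.natTrans.app W) := by
  haveI : IsFinite (Spec.map (D.str W)) := (IsFinite.SpecMap_iff _).2
    ((RingHom.finite_algebraMap).2 (finite_asAlgebra (D.g W)))
  exact inferInstanceAs (IsFinite (Spec.map (D.str W) ≫ W.1.2.isoSpec.inv))

theorem ASData.etale_app (W : D.cover.I₀) : Etale (D.natTrans.app W) := by
  haveI : Etale (Spec.map (D.str W)) := (HasRingHomProperty.Spec_iff (P := @Etale)).2
    ((RingHom.etale_algebraMap).2 (etale_asAlgebra (D.natCast_eq_zero W) (D.g W)))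
  exact inferInstanceAs (Etale (Spec.map (D.str W) ≫ W.1.2.isoSpec.inv))

theorem ASData.surjective_app (W : D.cover.I₀) : Surjective (D.natTrans.app W) := by
  haveI : Surjective (Spec.map (D.str W)) := by
    haveI := finite_asAlgebra (p := p) (D.g W)
    haveI : FaithfulSMul Γ(X, W.1.1) (AdjoinRoot (asPoly p (D.g W))) :=
      (faithfulSMul_iff_algebraMap_injective _ _).2 fun a b hab => by
        rw [AdjoinRoot.algebraMap_eq] at hab
        have h0 : AdjoinRoot.mk (asPoly p (D.g W)) (C (a - b)) = 0 := by
          rw [AdjoinRoot.mk_C, map_sub, hab, sub_self]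
        by_contra hne
        refine AdjoinRoot.mk_ne_zero_of_natDegree_lt (asPoly_monic _)
          (mt C_eq_zero.1 (sub_ne_zero.2 hne)) ?_ h0
        haveI : Nontrivial Γ(X, W.1.1) := nontrivial_of_ne _ _ hne
        rw [natDegree_C]
        refine Nat.pos_of_ne_zero fun h => ?_
        have h1 : asPoly p (D.g W) = 1 := Polynomial.eq_one_of_monic_natDegree_zero (asPoly_monic _) h
        have := congrArg (fun q => coeff q p) h1
        simp [asPoly, coeff_X_pow, coeff_X, coeff_C, hp.out.ne_one, hp.out.ne_one.symm, hp.out.ne_zero,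
          coeff_one] at this
    exact ⟨Algebra.IsIntegral.comap_surjective _ _⟩
  exact inferInstanceAs (Surjective (Spec.map (D.str W) ≫ W.1.2.isoSpec.inv))

instance : Small.{u} D.cover.I₀ := inferInstanceAs (Small.{u} D.Idx)

/-- If all finite étale covers split, compatible roots exist. -/
theorem ASData.exists_roots [Nonempty X] (hπ : ∀ Y : FEt.Cat X, Pi1.IsSplit Y) :
    ∃ r : ∀ W : D.Idx, Γ(X, W.1.1), (∀ W, r W ^ p - r W = - D.g W) ∧
      ∀ {W W' : D.Idx} (h : W.1.1 ≤ W'.1.1),
        X.presheaf.map (homOfLE h).op (r W') = r W + D.c h := by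
  let G := D.gluing
  have hfin : IsFinite G.toBase :=
    IsZariskiLocalAtTarget.of_openCover D.cover fun W =>
      (MorphismProperty.arrow_mk_iso_iff @IsFinite (Arrow.isoMk
        ((G.isPullback_natTrans_ι_toBase W).flip.isoPullback) (Iso.refl _) (by simp [Scheme.Cover.pullbackHom]; exact IsPullback.isoPullback_hom_snd _))).1
        (D.finite_app W)
  have het : Etale G.toBase :=
    IsZariskiLocalAtTarget.of_openCover D.cover fun W =>
      (MorphismProperty.arrow_mk_iso_iff @Etale (Arrow.isoMk
        ((G.isPullback_natTrans_ι_toBase W).flip.isoPullback) (Iso.refl _) (by simp [Scheme.Cover.pullbackHom]; exact IsPullback.isoPullback_hom_snd _))).1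
        (D.etale_app W)
  let Y : FEt.Cat X := MorphismProperty.Over.mk ⊤ G.toBase ⟨hfin, het⟩
  obtain ⟨ι, -, e, he⟩ := hπ Y
  obtain ⟨i⟩ : Nonempty ι := by
    obtain ⟨x⟩ := ‹Nonempty X›
    let W := D.cover.idx x
    obtain ⟨w, -⟩ := D.cover.covers x
    obtain ⟨y, -⟩ := (D.surjective_app W).surj w
    let z : (∐ fun _ : ι => X : Scheme.{u}) := e.hom (colimit.ι G.functor W y)
    obtain ⟨i, -⟩ := Scheme.IsLocallyDirected.ι_jointly_surjective (Discrete.functor fun _ : ι => X) z
    exact ⟨i.as⟩
  let σ : X ⟶ G.glued := Sigma.ι (fun _ : ι => X) i ≫ e.inv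
  have hσ : σ ≫ G.toBase = 𝟙 X := (Category.assoc _ _ _).trans (he i)
  have hex : ∀ W : D.Idx, ∃ a : D.alg W ⟶ Γ(X, W.1.1), D.str W ≫ a = 𝟙 _ ∧
      W.1.2.isoSpec.hom ≫ Spec.map a ≫ colimit.ι G.functor W = W.1.1.ι ≫ σ := fun W => by
    obtain ⟨l, hl₁, hl₂⟩ := (G.isPullback_natTrans_ι_toBase W).exists_lift (𝟙 _) (W.1.1.ι ≫ σ) (by
      rw [Category.id_comp, Category.assoc, hσ, Category.comp_id]
      rfl)
    refine ⟨Spec.preimage (W.1.2.isoSpec.inv ≫ l), Spec.map_injective ?_, ?_⟩
    · rw [Spec.map_comp, Spec.map_preimage, Spec.map_id, Category.assoc, ← cancel_mono W.1.2.isoSpec.inv,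
        Category.id_comp, Category.assoc]
      exact (congrArg (_ ≫ ·) hl₁).trans (Category.comp_id _)
    · rw [Spec.map_preimage, Category.assoc, Iso.hom_inv_id_assoc]
      exact hl₂
  choose a ha₁ ha₂ using hex
  refine ⟨fun W => a W (AdjoinRoot.root _), fun W => ?_, fun {W W'} h => ?_⟩
  · have := congrArg (a W).hom (root_asPoly (p := p) (D.g W))
    simp only [map_sub, map_pow, map_zero] at this
    have h1 : a W (D.str W (D.g W)) = D.g W := congrArg (fun f => f (D.g W)) (ha₁ W)
    simp only [CommRingCat.hom_ofHom] at h1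
    linear_combination this - h1
  · have key : a W' ≫ X.presheaf.map (homOfLE h).op = D.transl h ≫ a W := by
      refine Spec.map_injective ?_
      rw [← cancel_epi W.1.2.isoSpec.hom, Spec.map_comp, Spec.map_comp]
      let j : Spec (D.alg W') ⟶ G.glued := colimit.ι G.functor W'
      haveI : IsOpenImmersion j := inferInstanceAs (IsOpenImmersion (G.cover.f W'))
      refine (cancel_mono j).1 ?_
      simp only [Category.assoc]
      have hw : Spec.map (D.transl h) ≫ colimit.ι G.functor W' = colimit.ι G.functor W :=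
        colimit.w G.functor (homOfLE h : W ⟶ W')
      rw [hw, ha₂ W]
      have hres : W.1.2.isoSpec.hom ≫ Spec.map (X.presheaf.map (homOfLE h).op) =
          X.homOfLE h ≫ W'.1.2.isoSpec.hom := by
        rw [← cancel_mono W'.1.2.fromSpec]
        simp [IsAffineOpen.map_fromSpec W'.1.2 W.1.2]
      rw [reassoc_of% hres, ha₂ W', Scheme.homOfLE_ι_assoc]
    have := congrArg (fun f => f (AdjoinRoot.root (asPoly p (D.g W')))) key
    simp only [ConcreteCategory.comp_apply, D.transl_root, map_add] at this
    rw [this]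
    exact congrArg (_ + ·) (congrArg (fun f => f (D.c h)) (ha₁ W))

end Groth.Agent.Frob53
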