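import Groth.Agent.Frob53.FrobLineDim
import Groth.Agent.FinCov99.Split
import Groth.Agent.QC70.Closure
import Groth.Agent.QCqs72.Basic
import Groth.Agent.Coh69.AffinePush
import Groth.Agent.SpFP87.Reduced
import Groth.Agent.QC70.DevissageAux
import Groth.Prelude.Def_FinCov

/-!
# The Frobenius cokernel under a double cover
-/

universe u

open CategoryTheory CategoryTheory.Limits AlgebraicGeometry Opposite TopologicalSpace

noncomputable section

set_option maxSynthPendingDepth 6
set_option linter.style.haveILetI false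
set_option backward.isDefEq.respectTransparency.types false

namespace Groth.Agent.Frob53

variable {X Y : Scheme.{u}}

/-- Direct image along an affine morphism is exact when the kernel is quasi-coherent. -/
theorem shortExact_push_affine (f : Y ⟶ X) [IsAffineHom f] {S : ShortComplex Y.Modules}
    (hS : S.ShortExact) [S.X₁.IsQuasicoherent] :
    (S.map (Scheme.Modules.pushforward f)).ShortExact := by
  haveI := hS.mono_f
  haveI := (Scheme.Modules.pullbackPushforwardAdjunction f).rightAdjoint_preservesLimits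
  haveI : PreservesLimitsOfSize.{0, 0} (Scheme.Modules.pushforward f) :=
    preservesLimitsOfSize_shrink.{0, u, 0, u} _
  exact { exact := (S.map (Scheme.Modules.pushforward f)).exact_of_f_is_kernel
            (KernelFork.mapIsLimit _ hS.fIsKernel (Scheme.Modules.pushforward f))
          mono_f := ((Scheme.Modules.pushforward f).map_mono S.f)
          epi_g := QC70.epi_of_locally_surjective _ fun U s x hx => by
            obtain ⟨V, hV, hxV, hVU⟩ := exists_isAffineOpen_mem_and_subset (X := X) (U := U) hx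
            obtain ⟨t, ht⟩ := QC70.app_surjective_of_isAffineOpen S hS (hV.preimage f)
              (QC70.res S.X₃ (f.preimage_mono hVU) s)
            exact ⟨V, hVU, t, hxV, ht⟩ }

/-- The unit `O → F_*O` is a monomorphism on a reduced scheme. -/
theorem mono_unitToPush_frob (p : ℕ) [Fact p.Prime] [FrobSch.IsCharP X p] [IsReduced X] :
    Mono (ClSub.unitToPush (FrobSch.frob X p)) := by
  refine QC70.mono_of_app_injective _ fun U => ?_
  refine (injective_iff_map_eq_zero _).2 fun (a : Γ(X, U)) (ha : a ^ p = 0) => ?_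
  exact IsReduced.eq_zero (R := Γ(X, U)) a ⟨p, ha⟩

variable (k : Type u) [Field k]

/-- If the quotient is acyclic, the inclusion is injective on cohomology. -/
theorem injective_hmap_of_acyclic [X.Over (Spec (CommRingCat.of k))] {S : ShortComplex X.Modules}
    (hS : S.ShortExact) (h : ∀ n, Subsingleton (Coh.HH X S.X₃ n)) (n : ℕ) :
    Function.Injective (Crv77.hmap k S.f n) := by
  cases n with
  | zero => exact Crv77.injective_f_zero k hS
  | succ n =>
    refine (injective_iff_map_eq_zero _).2 fun x hx => ?_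
    obtain ⟨w, rfl⟩ := (Crv77.exact_δ_f k hS n x).1 hx
    rw [(h n).elim w 0, map_zero]

theorem hmap_add [X.Over (Spec (CommRingCat.of k))] {M N : X.Modules} (φ ψ : M ⟶ N) (n : ℕ)
    (x : Coh.HH X M n) : Crv77.hmap k (φ + ψ) n x = Crv77.hmap k φ n x + Crv77.hmap k ψ n x := by
  exact Eq.trans (congrArg (fun q => Abelian.Ext.comp x q (add_zero n))
    ((congrArg Abelian.Ext.mk₀ ((Crv77.toAbF X).map_add (f := φ) (g := ψ))).trans
      (Abelian.Ext.mk₀_add _ _))) (Abelian.Ext.comp_add x _ _ _)

/-- A map bijective on cohomology has acyclic cokernel. -/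
theorem subsingleton_of_bijective [X.Over (Spec (CommRingCat.of k))] {S : ShortComplex X.Modules}
    (hS : S.ShortExact) (h : ∀ n, Function.Bijective (Crv77.hmap k S.f n)) (n : ℕ) :
    Subsingleton (Coh.HH X S.X₃ n) := by
  refine subsingleton_of_forall_eq 0 fun z => ?_
  have hδ : Crv77.hδ k hS n z = 0 := (h (n + 1)).1 (by
    rw [map_zero]; exact (Crv77.exact_δ_f k hS n _).2 ⟨z, rfl⟩)
  obtain ⟨y, rfl⟩ := (Crv77.exact_g_δ k hS n z).1 hδ
  obtain ⟨x, rfl⟩ := (h n).2 y
  exact (Crv77.exact_f_g k hS n _).2 ⟨x, rfl⟩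

/-- The direct image of the structure sheaf as a module of the direct image algebra. -/
def toAlgMod (f : Y ⟶ X) [QuasiCompact f] [QuasiSeparated f] :
    (Scheme.Modules.pushforward f).obj (Coh.structureModule Y) ⟶
      (RelSpec.QCAlg.directImage f).toModule :=
  ⟨letI := (RelSpec.QCAlg.directImage f).moduleSect
   PresheafOfModules.homMk
    { app := fun U => AddCommGrpCat.ofHom (AddMonoidHom.id _)
      naturality := fun _ _ _ => rfl }
    (fun _ _ _ => rfl)⟩

instance isIso_toAlgMod (f : Y ⟶ X) [QuasiCompact f] [QuasiSeparated f] : IsIso (toAlgMod f) := by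
  rw [Scheme.Modules.Hom.isIso_iff_isIso_app]
  exact fun V => (ConcreteCategory.isIso_iff_bijective _).2 Function.bijective_id

/-- The trace splits the unit of a finite locally free morphism up to the rank. -/
theorem exists_trace (f : Y ⟶ X) [QuasiCompact f] [QuasiSeparated f] (d : ℕ)
    (hd : FlatMod.IsFinLocFreeOfRank d ((Scheme.Modules.pushforward f).obj (Coh.structureModule Y))) :
    ∃ τ : (Scheme.Modules.pushforward f).obj (Coh.structureModule Y) ⟶ Coh.structureModule X,
      ClSub.unitToPush f ≫ τ = d • 𝟙 _ := by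
  have hA : FlatMod.IsFinLocFreeOfRank d (RelSpec.QCAlg.directImage f).toModule := fun x => by
    obtain ⟨U, hx, ⟨e⟩⟩ := hd x
    exact ⟨U, hx, ⟨((Scheme.Modules.restrictFunctor U.ι).mapIso (asIso (toAlgMod f))).symm ≪≫ e⟩⟩
  have hu : ClSub.unitToPush f ≫ toAlgMod f = FinCov.strMod (RelSpec.QCAlg.directImage f) :=
    Scheme.Modules.hom_ext _ _ fun U => by ext s; rfl
  refine ⟨toAlgMod f ≫ FinCov99.trHom (FinCov99.isFinLocFree_of_rank hA), ?_⟩
  rw [← Category.assoc, hu]
  exact FinCov99.strMod_comp hA (FinCov99.isTrace_trHom _)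

/-- Frobenius commutes with the unit of `f`. -/
theorem exists_square (p : ℕ) [Fact p.Prime] [FrobSch.IsCharP X p] [FrobSch.IsCharP Y p] (f : Y ⟶ X) :
    ∃ θ : (Scheme.Modules.pushforward (FrobSch.frob X p)).obj
          ((Scheme.Modules.pushforward f).obj (Coh.structureModule Y)) ⟶
        (Scheme.Modules.pushforward f).obj
          ((Scheme.Modules.pushforward (FrobSch.frob Y p)).obj (Coh.structureModule Y)),
      ClSub.unitToPush (FrobSch.frob X p) ≫
          (Scheme.Modules.pushforward (FrobSch.frob X p)).map (ClSub.unitToPush f) ≫ θ =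
        ClSub.unitToPush f ≫
          (Scheme.Modules.pushforward f).map (ClSub.unitToPush (FrobSch.frob Y p)) := by
  refine ⟨(Scheme.Modules.pushforwardComp f (FrobSch.frob X p)).hom.app _ ≫
    (Scheme.Modules.pushforwardCongr (FrobSch.frob_comp p f).symm).hom.app _ ≫
    (Scheme.Modules.pushforwardComp (FrobSch.frob Y p) f).inv.app _,
    Scheme.Modules.hom_ext _ _ fun U => ?_⟩
  ext (s : Γ(X, U))
  change Y.presheaf.map (eqToHom (rfl : f ⁻¹ᵁ U = f ⁻¹ᵁ U)).op (f.app U (s ^ p)) = ((f.app U s) ^ p : Γ(Y, f ⁻¹ᵁ U))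
  rw [map_pow, map_pow, eqToHom_refl, op_id, CategoryTheory.Functor.map_id]
  rfl

variable (p : ℕ) [Fact p.Prime] [CharP k p] [PerfectRing k p] [FrobSch.IsCharP X p] [FrobSch.IsCharP Y p]
  [X.Over (Spec (CommRingCat.of k))] [IsProper (X ↘ Spec (CommRingCat.of k))]

include k in
theorem subsingleton_frobQuot_of_cover (hp : p ≠ 2) [IsReduced X] [IsReduced Y] (f : Y ⟶ X)
    [IsAffineHom f]
    (h2 : FlatMod.IsFinLocFreeOfRank 2 ((Scheme.Modules.pushforward f).obj (Coh.structureModule Y)))
    (hY : ∀ i : ℕ, Subsingleton (Coh.HH Y (cokernel (ClSub.unitToPush (FrobSch.frob Y p))) i))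
    (i : ℕ) :
    Subsingleton (Coh.HH X (cokernel (ClSub.unitToPush (FrobSch.frob X p))) i) := by
  haveI : IsLocallyNoetherian X :=
    LocallyOfFiniteType.isLocallyNoetherian (X ↘ Spec (CommRingCat.of k))
  haveI := mono_unitToPush_frob (X := X) p
  haveI := mono_unitToPush_frob (X := Y) p
  let SX : ShortComplex X.Modules :=
    ShortComplex.mk _ (cokernel.π (ClSub.unitToPush (FrobSch.frob X p))) (cokernel.condition _)
  have hSX : SX.ShortExact := { exact := SX.exact_of_g_is_cokernel (cokernelIsCokernel _) }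
  let SY : ShortComplex Y.Modules :=
    ShortComplex.mk _ (cokernel.π (ClSub.unitToPush (FrobSch.frob Y p))) (cokernel.condition _)
  have hSY : SY.ShortExact := { exact := SY.exact_of_g_is_cokernel (cokernelIsCokernel _) }
  haveI : SY.X₁.IsQuasicoherent := QC70.isQuasicoherent_unit
  haveI : IsAffineHom (FrobSch.frob Y p) := ⟨fun _ hU => hU⟩
  haveI : SY.X₂.IsQuasicoherent := QCqs72.isQuasicoherent_pushforward _ _
  haveI : SY.X₃.IsQuasicoherent := QC70.isQuasicoherent_cokernel _
  have hP := shortExact_push_affine f hSY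
  have hacyc : ∀ n, Subsingleton (Coh.HH X (SY.map (Scheme.Modules.pushforward f)).X₃ n) := fun n => by
    obtain ⟨e⟩ := Coh69.nonempty_hh_push f SY.X₃ n
    haveI := hY n
    exact e.symm.injective.subsingleton
  obtain ⟨τ, hτ⟩ := exists_trace f 2 h2
  obtain ⟨θ, hθ⟩ := exists_square p f
  refine subsingleton_of_bijective k hSX (fun n => ?_) i
  have hinj : Function.Injective (Crv77.hmap k SX.f n) := by
    refine (injective_iff_map_eq_zero _).2 fun x hx => ?_
    have h1 : Crv77.hmap k ((Scheme.Modules.pushforward f).map (ClSub.unitToPush (FrobSch.frob Y p))) n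
        (Crv77.hmap k (ClSub.unitToPush f) n x) = 0 := by
      rw [Crv77.hmap_comp, ← hθ, ← Crv77.hmap_comp, hx, map_zero]
    have h3 : Crv77.hmap k (ClSub.unitToPush f) n x = 0 :=
      (injective_iff_map_eq_zero _).1 (injective_hmap_of_acyclic k hP hacyc n) _ h1
    have h4 : Crv77.hmap k (ClSub.unitToPush f ≫ τ) n x = 0 := by
      rw [← Crv77.hmap_comp, h3]
      exact map_zero (Crv77.hmap k τ n)
    rw [hτ, two_nsmul] at h4
    have h5 : x + x = 0 := by
      rw [hmap_add, Crv77.hmap_id] at h4
      exact h4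
    have h6 : (2 : k) • x = 0 := by rw [two_smul]; exact h5
    refine (smul_eq_zero.1 h6).resolve_left fun h => ?_
    have hdvd : (p : ℕ) ∣ 2 := (CharP.cast_eq_zero_iff k p 2).1 (by exact_mod_cast h)
    exact hp ((Nat.prime_dvd_prime_iff_eq Fact.out Nat.prime_two).1 hdvd)
  obtain ⟨hfin, heq⟩ := finite_and_finrank_pf p (k := k) (X := X) (Coh.structureModule X) QC70.isCoh_unit n
  haveI : Module.Finite k (Coh.HH X SX.X₂ n) := hfin
  haveI : Module.Finite k (Coh.HH X SX.X₁ n) :=
    Serre71.finite_hh_of_isProper k (Coh.structureModule X) QC70.isCoh_unit n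
  exact ⟨hinj, (LinearMap.injective_iff_surjective_of_finrank_eq_finrank heq.symm).1 hinj⟩

end Groth.Agent.Frob53

end
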