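import Groth.Agent.PBasis12.Field
import Mathlib.RingTheory.Localization.FractionRing
import Mathlib.RingTheory.IntegralClosure.IntegrallyClosed

/-! Functions with vanishing differential are `p`-th powers. -/

set_option autoImplicit false
universe u

open EGA41

namespace Groth.Agent.Frob53

variable (p : ℕ) [Fact p.Prime] (k : Type u) [Field k] [CharP k p] [PerfectRing k p]

theorem exists_pow_eq_field (K : Type u) [Field K] [Algebra k K] [CharP K p] (c : K)
    (h : KaehlerDifferential.D k K c = 0) : ∃ b : K, b ^ p = c := by
  have hall : ∀ y ∈ pPowerSubalgebra p k K, ∃ b : K, b ^ p = y := by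
    intro y hy
    induction hy using Algebra.adjoin_induction with
    | mem y hy => exact hy
    | algebraMap r =>
      obtain ⟨s, rfl⟩ := (PerfectRing.bijective_frobenius (R := k) (p := p)).2 r
      exact ⟨algebraMap k K s, (map_pow (algebraMap k K) s p).symm⟩
    | add a b _ _ ha hb =>
      obtain ⟨a', rfl⟩ := ha
      obtain ⟨b', rfl⟩ := hb
      exact ⟨a' + b', add_pow_char a' b' p⟩
    | mul a b _ _ ha hb =>
      obtain ⟨a', rfl⟩ := ha
      obtain ⟨b', rfl⟩ := hb
      exact ⟨a' * b', mul_pow a' b' p⟩
  by_contra hc
  have hx := PBasis12.isPIndependent_empty (p := p) (k := k) (K := K)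
  have hc' : c ∉ Algebra.adjoin (pPowerSubalgebra p k K)
      (Set.range (Subtype.val : ↥(∅ : Set K) → K)) := by
    intro hm
    have hrange : Set.range (Subtype.val : ↥(∅ : Set K) → K) = ∅ := Subtype.range_coe
    rw [hrange, Algebra.adjoin_empty, Algebra.mem_bot] at hm
    obtain ⟨s, rfl⟩ := hm
    exact hc (hall _ s.2)
  have hli := (PBasis12.isPIndependent_iff_D _).1 (PBasis12.isPIndependent_option hx hc')
  exact hli.ne_zero none h

theorem exists_pow_eq_normal (A : Type u) [CommRing A] [IsDomain A] [IsIntegrallyClosed A] [Algebra k A]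
    (c : A) (h : KaehlerDifferential.D k A c = 0) : ∃ b : A, b ^ p = c := by
  have : CharP (FractionRing A) p := charP_of_injective_algebraMap (algebraMap k (FractionRing A)).injective p
  have h' : KaehlerDifferential.D k (FractionRing A) (algebraMap A (FractionRing A) c) = 0 := by
    rw [← KaehlerDifferential.map_D k k A (FractionRing A), h, map_zero]
  obtain ⟨b, hb⟩ := exists_pow_eq_field p k (FractionRing A) _ h'
  have hint : IsIntegral A b := by
    refine IsIntegral.of_pow (Fact.out (p := p.Prime)).pos ?_
    rw [hb]
    exact isIntegral_algebraMap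
  obtain ⟨a, rfl⟩ := IsIntegrallyClosed.isIntegral_iff.1 hint
  exact ⟨a, IsFractionRing.injective A (FractionRing A) (by rw [map_pow, hb])⟩

end Groth.Agent.Frob53
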