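import Mathlib
import Groth.Agent.Frob53.ASCover
import Groth.Agent.Crv77.HH
import Groth.Agent.Hyper50.SecExact
import Groth.Prelude.Def_W4c5isocrystsimpconnFrobH

/-!
# Frobenius-fixed classes in `H¹(X, O)` of a scheme without finite étale covers
-/

set_option autoImplicit false
universe u

open CategoryTheory CategoryTheory.Limits AlgebraicGeometry Opposite CategoryTheory.Abelian
  TopologicalSpace

namespace Groth.Agent.Frob53

variable {p : ℕ} [hp : Fact p.Prime] {X : Scheme.{u}} [FrobSch.IsCharP X p]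

/-- If every finite étale cover splits, `H¹(X, O)` has no nonzero Frobenius-fixed class. -/
theorem eq_zero_of_frobH_fixed [Nonempty X] (hπ : ∀ Y : FEt.Cat X, Pi1.IsSplit Y)
    (x : Coh.HH X (Coh.structureModule X) 1)
    (hx : W4c5isocrystsimpconn.frobH X p 1 x = x) : x = 0 := by
  let A := Coh.toAb (Coh.structureModule X)
  let Φ : A ⟶ A := W4c5isocrystsimpconn.frobAb X p
  let S : ShortComplex (Sheaf (Opens.grothendieckTopology X) AddCommGrpCat.{u}) :=
    ShortComplex.mk (Injective.ι A) (cokernel.π _) (cokernel.condition _)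
  have hS : S.ShortExact :=
    { exact := S.exact_of_g_is_cokernel (cokernelIsCokernel _) }
  let Φ₂ : S.X₂ ⟶ S.X₂ := Injective.factorThru (Φ ≫ Injective.ι A) (Injective.ι A)
  have hΦ₂ : Injective.ι A ≫ Φ₂ = Φ ≫ Injective.ι A := Injective.comp_factorThru _ _
  let φ : S ⟶ S :=
    { τ₁ := Φ
      τ₂ := Φ₂
      τ₃ := cokernel.map _ _ Φ Φ₂ hΦ₂
      comm₁₂ := hΦ₂.symm
      comm₂₃ := (cokernel.π_desc _ _ _).symm }
  haveI : Injective S.X₂ := inferInstanceAs (Injective (Injective.under A))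
  let δ := Crv77.gδ.{u} (Crv77.srcObj X) hS 0
  obtain ⟨q₀, hq₀⟩ : ∃ q₀, δ q₀ = x :=
    (Crv77.gexact₁.{u} (Crv77.srcObj X) hS 0 x).1 (Ext.eq_zero_of_injective _)
  have hnat : δ (Sheaf.H.map φ.τ₃ 0 q₀) = W4c5isocrystsimpconn.frobH X p 1 (δ q₀) :=
    Crv77.ext_extClass_natural.{u} (Z := Crv77.srcObj X) hS φ q₀
  have hzero : δ (Sheaf.H.map φ.τ₃ 0 q₀ - q₀) = 0 := by
    rw [map_sub, hnat, hq₀, hx, sub_self]
  obtain ⟨y, hy⟩ := (Crv77.gexact₃.{u} (Crv77.srcObj X) hS 0 _).1 hzero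
  have hT : IsTerminal (⊤ : X.Opens) := isTerminalTop
  let q : S.X₃.obj.obj (op ⊤) := Sheaf.H.equiv₀ S.X₃ hT q₀
  let s : S.X₂.obj.obj (op ⊤) := Sheaf.H.equiv₀ S.X₂ hT y
  have hs : S.g.hom.app (op ⊤) s = φ.τ₃.hom.app (op ⊤) q - q := by
    refine (Sheaf.H.equiv₀_naturality hT S.g y).trans ?_
    refine (congrArg (Sheaf.H.equiv₀ S.X₃ hT) hy).trans ?_
    rw [map_sub]
    exact congrArg (· - q) (Sheaf.H.equiv₀_naturality hT φ.τ₃ q₀).symm
  suffices hlift : ∃ u₀, S.g.hom.app (op ⊤) u₀ = q by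
    obtain ⟨u₀, hu₀⟩ := hlift
    rw [← hq₀]
    refine (Crv77.gexact₃.{u} (Crv77.srcObj X) hS 0 q₀).2 ⟨(Sheaf.H.equiv₀ S.X₂ hT).symm u₀, ?_⟩
    refine (Sheaf.H.equiv₀_symm_naturality hT S.g u₀).trans ?_
    rw [hu₀, AddEquiv.symm_apply_apply]
  let rI : ∀ {V W : X.Opens}, V ≤ W → S.X₂.obj.obj (op W) →+ S.X₂.obj.obj (op V) :=
    fun h => (S.X₂.obj.map (homOfLE h).op).hom
  let rQ : ∀ {V W : X.Opens}, V ≤ W → S.X₃.obj.obj (op W) →+ S.X₃.obj.obj (op V) :=
    fun h => (S.X₃.obj.map (homOfLE h).op).hom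
  let π : ∀ V : X.Opens, S.X₂.obj.obj (op V) →+ S.X₃.obj.obj (op V) :=
    fun V => (S.g.hom.app (op V)).hom
  let i : ∀ V : X.Opens, Γ(X, V) →+ S.X₂.obj.obj (op V) := fun V => (S.f.hom.app (op V)).hom
  let F₂ : ∀ V : X.Opens, S.X₂.obj.obj (op V) →+ S.X₂.obj.obj (op V) :=
    fun V => (Φ₂.hom.app (op V)).hom
  have hi_inj : ∀ V, Function.Injective (i V) := fun V => Hyper50.sec_injective hS V
  have hi_ex : ∀ V b, π V b = 0 → ∃ a, i V a = b := fun V b hb => Hyper50.sec_exact hS V hb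
  have hπi : ∀ V a, π V (i V a) = 0 := fun V a =>
    congrArg (fun f : S.X₁ ⟶ S.X₃ => f.hom.app (op V) a) S.zero
  have hF₂i : ∀ V (a : Γ(X, V)), F₂ V (i V a) = i V (a ^ p) := fun V a =>
    congrArg (fun f : S.X₁ ⟶ S.X₂ => f.hom.app (op V) a) hΦ₂
  have hrπ : ∀ {V W : X.Opens} (h : V ≤ W) b, rQ h (π W b) = π V (rI h b) := fun {V W} h b =>
    (congrArg (fun f => f b) (S.g.hom.naturality (homOfLE h).op)).symm
  have hri : ∀ {V W : X.Opens} (h : V ≤ W) (a : Γ(X, W)),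
      rI h (i W a) = i V (X.presheaf.map (homOfLE h).op a) := fun {V W} h a =>
    (congrArg (fun f => f a) (S.f.hom.naturality (homOfLE h).op)).symm
  have hrF : ∀ {V W : X.Opens} (h : V ≤ W) b, rI h (F₂ W b) = F₂ V (rI h b) := fun {V W} h b =>
    (congrArg (fun f => f b) (Φ₂.hom.naturality (homOfLE h).op)).symm
  have hrr : ∀ {U V W : X.Opens} (h : U ≤ V) (h' : V ≤ W) b,
      rI h (rI h' b) = rI (h.trans h') b := fun {U V W} h h' b =>
    (congrArg (fun f => f b) (S.X₂.obj.map_comp (homOfLE h').op (homOfLE h).op)).symm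
  have hrrQ : ∀ {U V W : X.Opens} (h : U ≤ V) (h' : V ≤ W) b,
      rQ h (rQ h' b) = rQ (h.trans h') b := fun {U V W} h h' b =>
    (congrArg (fun f => f b) (S.X₃.obj.map_comp (homOfLE h').op (homOfLE h).op)).symm
  let good : X.affineOpens → Prop := fun W => ∃ t, π W.1 t = rQ le_top q
  let t : ∀ W : {W : X.affineOpens // good W}, S.X₂.obj.obj (op W.1.1) := fun W => W.2.choose
  have ht : ∀ W, π W.1.1 (t W) = rQ le_top q := fun W => W.2.choose_spec
  have hbasis : Opens.IsBasis (Set.range fun W : {W : X.affineOpens // good W} => W.1.1) := by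
    rw [Opens.isBasis_iff_nbhd]
    intro U z hz
    haveI : Epi S.g := inferInstanceAs (Epi (cokernel.π _))
    haveI : Sheaf.IsLocallySurjective S.g := (Sheaf.isLocallySurjective_iff_epi' _ _).2 inferInstance
    obtain ⟨V, f, ⟨b, hb⟩, hzV⟩ :=
      Presheaf.imageSieve_mem (Opens.grothendieckTopology X) S.g.hom q z trivial
    obtain ⟨_, ⟨W, hW, rfl⟩, hzW, hWUV⟩ :=
      X.isBasis_affineOpens.exists_subset_of_mem_open (show z ∈ U ⊓ V from ⟨hz, hzV⟩) (U ⊓ V).isOpen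
    have hWV : W ≤ V := fun a ha => (hWUV ha).2
    refine ⟨W, ⟨⟨⟨W, hW⟩, rI hWV b, ?_⟩, rfl⟩, hzW, fun a ha => (hWUV ha).1⟩
    rw [← hrπ]
    exact (congrArg (rQ hWV) hb).trans (hrrQ hWV le_top q)
  have hgex : ∀ W : {W : X.affineOpens // good W}, ∃ g : Γ(X, W.1.1),
      i W.1.1 g = F₂ W.1.1 (t W) - t W - rI le_top s := fun W => by
    refine hi_ex _ _ ?_
    rw [map_sub, map_sub, ← hrπ, hs, map_sub]
    have h1 : π W.1.1 (F₂ W.1.1 (t W)) = φ.τ₃.hom.app (op W.1.1) (π W.1.1 (t W)) :=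
      congrArg (fun f : S.X₂ ⟶ S.X₃ => f.hom.app (op W.1.1) (t W)) φ.comm₂₃
    have h2 : rQ (le_top : W.1.1 ≤ ⊤) (φ.τ₃.hom.app (op ⊤) q) = φ.τ₃.hom.app (op W.1.1) (rQ le_top q) :=
      (congrArg (fun f => f q) (φ.τ₃.hom.naturality (homOfLE (le_top : W.1.1 ≤ ⊤)).op)).symm
    rw [h1, ht, h2]
    exact sub_self _
  choose g hg using hgex
  have hcex : ∀ {W W' : {W : X.affineOpens // good W}} (h : W.1.1 ≤ W'.1.1),
      ∃ c : Γ(X, W.1.1), i W.1.1 c = t W - rI h (t W') := fun {W W'} h => by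
    refine hi_ex _ _ ?_
    rw [map_sub, ← hrπ, ht, ht, hrrQ, sub_self]
  let D : ASData p X :=
    { good := good
      basis := hbasis
      g := g
      c := fun {W W'} h => (hcex h).choose
      natCast_eq_zero := fun W => FrobSch.natCast_eq_zero_app X p W.1.1
      c_pow := fun {W W'} h => hi_inj _ (by
        rw [map_sub, map_sub, ← hri, hg, hg, ← hF₂i, (hcex h).choose_spec]
        simp only [map_sub, hrF, hrr]
        abel)
      c_refl := fun W => hi_inj _ (by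
        rw [(hcex (le_refl W.1.1)).choose_spec, map_zero, sub_eq_zero]
        exact (congrArg (fun f => f (t W)) (S.X₂.obj.map_id (op W.1.1))).symm)
      c_trans := fun {W W' W''} h h' => hi_inj _ (by
        rw [map_add, ← hri, (hcex h).choose_spec, (hcex h').choose_spec, (hcex (h.trans h')).choose_spec]
        simp only [map_sub, hrr]
        abel) }
  obtain ⟨r, -, hr⟩ := D.exists_roots hπ
  let sec : ∀ W : D.Idx, S.X₂.obj.obj (op W.1.1) := fun W => t W + i _ (r W)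
  have hsec : ∀ {W W' : D.Idx} (h : W.1.1 ≤ W'.1.1), rI h (sec W') = sec W := fun {W W'} h => by
    simp only [sec, map_add, hri, hr h, map_add]
    rw [show i W.1.1 (D.c h) = t W - rI h (t W') from (hcex h).choose_spec]
    abel
  let F : TopCat.Sheaf AddCommGrpCat.{u} X.toTopCat := S.X₂
  let Q : TopCat.Sheaf AddCommGrpCat.{u} X.toTopCat := S.X₃
  have htop : (⊤ : X.Opens) ≤ iSup fun W : D.Idx => W.1.1 := fun z _ => by
    obtain ⟨_, ⟨W, rfl⟩, hz, -⟩ := Opens.isBasis_iff_nbhd.mp hbasis (Opens.mem_top z)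
    exact Opens.mem_iSup.2 ⟨W, hz⟩
  have hcompat : TopCat.Presheaf.IsCompatible F.1 (fun W : D.Idx => W.1.1) sec := by
    intro W W'
    refine F.eq_of_locally_eq' (fun V : {V : D.Idx // V.1.1 ≤ W.1.1 ⊓ W'.1.1} => V.1.1.1)
      (W.1.1 ⊓ W'.1.1) (fun V => homOfLE V.2) (fun z hz => ?_) _ _ fun V => ?_
    · obtain ⟨_, ⟨V, rfl⟩, hzV, hle⟩ := Opens.isBasis_iff_nbhd.mp hbasis hz
      exact Opens.mem_iSup.2 ⟨⟨V, hle⟩, hzV⟩
    · refine (hrr V.2 inf_le_left (sec W)).trans ?_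
      exact ((hsec (V.2.trans inf_le_left)).trans (hsec (V.2.trans inf_le_right)).symm).trans
        (hrr V.2 inf_le_right (sec W')).symm
  obtain ⟨u₀, hu₀, -⟩ := F.existsUnique_gluing' (fun W : D.Idx => W.1.1) ⊤ (fun W => homOfLE le_top)
    htop sec hcompat
  refine ⟨u₀, Q.eq_of_locally_eq' (fun W : D.Idx => W.1.1) ⊤ (fun W => homOfLE le_top) htop _ _
    fun W => ?_⟩
  refine (hrπ le_top u₀).trans ((congrArg (π W.1.1) (hu₀ W)).trans ?_)
  show π W.1.1 (t W + i _ (r W)) = _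
  rw [map_add, hπi, add_zero, ht]

end Groth.Agent.Frob53
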