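import Groth.Agent.Frob53.FieldPow
import Groth.Agent.Frob53.DoubleCover
import Groth.Agent.Var76.OmegaUniv
import Groth.Agent.Var76.RegPow
import Groth.Agent.QC70.HomLocFree
import Groth.Agent.KRR40.ProjFormulaVB
import Groth.Agent.Crv77.Sections
import Groth.Agent.Crv77.TwistSection
import Groth.Prelude.Def_Pi1

/-! The kernel of `d : F_*O → F_*Ω` and the cohomological consequence for locally free modules. -/

set_option autoImplicit false
set_option backward.isDefEq.respectTransparency.types false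
set_option linter.style.haveILetI false
universe u

open CategoryTheory CategoryTheory.Limits AlgebraicGeometry Opposite TopologicalSpace

noncomputable section

namespace Groth.Agent.Frob53

variable {X : Scheme.{u}} {k : Type u} [Field k] (f : X ⟶ Spec (CommRingCat.of k))

theorem exists_root_stalk [QuasiSeparated f] (p : ℕ) [Fact p.Prime] [CharP k p] [PerfectRing k p] (x : X)
    [IsDomain (X.presheaf.stalk x)] [IsIntegrallyClosed (X.presheaf.stalk x)] {U : X.Opens} (hx : x ∈ U)
    (c : Γ(X, U)) (h : OmegaSh.dSect f U c = 0) :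
    ∃ b : X.presheaf.stalk x, b ^ p = X.presheaf.germ U x hx c := by
  obtain ⟨W, hW, hxW, hWU'⟩ := exists_isAffineOpen_mem_and_subset (X := X) (U := U) hx
  have hWU : W ≤ U := hWU'
  let V : (Spec (CommRingCat.of k)).Opens := ⊤
  have hle : W ≤ f ⁻¹ᵁ V := fun _ _ => trivial
  letI := (f.appLE V W hle).hom.toAlgebra
  let g : Γ(X, W) →+* X.presheaf.stalk x := (X.presheaf.germ W x hxW).hom
  let e : k →+* Γ(Spec (CommRingCat.of k), V) := (Scheme.ΓSpecIso (CommRingCat.of k)).inv.hom
  letI : Algebra k (X.presheaf.stalk x) := (g.comp ((algebraMap _ Γ(X, W)).comp e)).toAlgebra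
  letI : Algebra k Γ(X, W) := ((algebraMap _ Γ(X, W)).comp e).toAlgebra
  letI : Algebra Γ(X, W) (X.presheaf.stalk x) := g.toAlgebra
  haveI : IsScalarTower k Γ(X, W) (X.presheaf.stalk x) := IsScalarTower.of_algebraMap_eq fun _ => rfl
  let D₀ := KaehlerDifferential.map k k Γ(X, W) (X.presheaf.stalk x)
  refine exists_pow_eq_normal p k (X.presheaf.stalk x) _ ?_
  -- differentials over the field agree with those over its isomorphic image
  have he : Function.Surjective e :=
    (ConcreteCategory.bijective_of_isIso (Scheme.ΓSpecIso (CommRingCat.of k)).inv).2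
  letI : Algebra k Γ(Spec (CommRingCat.of k), V) := e.toAlgebra
  haveI : IsScalarTower k Γ(Spec (CommRingCat.of k), V) Γ(X, W) := IsScalarTower.of_algebraMap_eq fun _ => rfl
  have hsub : Subsingleton (Ω[Γ(Spec (CommRingCat.of k), V)⁄k]) :=
    KaehlerDifferential.subsingleton_of_surjective _ _ he
  have hinj : Function.Injective
      (KaehlerDifferential.map k Γ(Spec (CommRingCat.of k), V) Γ(X, W) Γ(X, W)) := by
    rw [injective_iff_map_eq_zero]
    intro z hz
    obtain ⟨y, rfl⟩ := (KaehlerDifferential.exact_mapBaseChange_map k Γ(Spec (CommRingCat.of k), V) Γ(X, W) z).1 hz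
    clear hz
    induction y using TensorProduct.induction_on with
    | zero => exact map_zero _
    | tmul a b => rw [Subsingleton.elim b 0, TensorProduct.tmul_zero, map_zero]
    | add a b ha hb => rw [map_add, ha, hb, add_zero]
  have hres : OmegaSh.dSect f W (X.presheaf.map (homOfLE hWU).op c) = 0 := by
    rw [OmegaSh.dSect_map f hWU c, h]
    exact map_zero _
  have := Omega57.isIso_toSect f hW (isAffineOpen_top _) hle
  have hD : KaehlerDifferential.D Γ(Spec (CommRingCat.of k), V) Γ(X, W)
      (X.presheaf.map (homOfLE hWU).op c) = 0 := by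
    apply (ConcreteCategory.bijective_of_isIso (OmAff.toSect f V W hle)).1
    exact (OmAff.toSect_d f V W hle _).trans (hres.trans (map_zero _).symm)
  have hk : KaehlerDifferential.D k Γ(X, W) (X.presheaf.map (homOfLE hWU).op c) = 0 := by
    apply hinj
    rw [KaehlerDifferential.map_D, map_zero]
    exact hD
  have := congrArg D₀ hk
  rw [KaehlerDifferential.map_D, map_zero] at this
  exact (congrArg (KaehlerDifferential.D k (X.presheaf.stalk x))
    (TopCat.Presheaf.germ_res_apply X.presheaf (homOfLE hWU) x hxW c)).symm.trans this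

end Groth.Agent.Frob53

namespace Groth.Agent.Frob53

variable {X : Scheme.{u}} {k : Type u} [Field k] (f : X ⟶ Spec (CommRingCat.of k)) [QuasiSeparated f]
  (p : ℕ) [Fact p.Prime] [FrobSch.IsCharP X p]

theorem dSect_pow_mul (U : X.Opens) (r a : Γ(X, U)) :
    OmegaSh.dSect f U (r ^ p * a) = r ^ p • OmegaSh.dSect f U a := by
  have h : OmegaSh.dSect f U (r ^ p) = 0 := by
    have hd : ∀ m : ℕ, OmegaSh.dSect f U (r ^ (m + 1)) = ((m + 1 : ℕ) : Γ(X, U)) • r ^ m • OmegaSh.dSect f U r := by
      intro m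
      induction m with
      | zero => rw [pow_one, pow_zero, one_smul, Nat.cast_one, one_smul]
      | succ m ih =>
        rw [pow_succ, OmegaSh.dSect_mul, ih, smul_smul, smul_smul, ← add_smul, smul_smul]
        congr 1
        push_cast
        ring
    obtain ⟨m, rfl⟩ : ∃ m, p = m + 1 := ⟨p - 1, (Nat.sub_add_cancel (Fact.out : p.Prime).one_le).symm⟩
    rw [hd m, FrobSch.natCast_eq_zero_app X (m + 1) U, zero_smul]
  rw [OmegaSh.dSect_mul, h, smul_zero, add_zero]

/-- `d : F_*O → F_*Ω`, linear over `O`. -/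
def frobDer : pf p (Coh.structureModule X) ⟶ pf p (Omega.sheaf f) :=
  ⟨PresheafOfModules.homMk
    { app := fun U => AddCommGrpCat.ofHom ((OmegaSh.dOmega f).app U.unop)
      naturality := fun U V i => by
        ext a
        exact Var76.OmegaUniv.Der.res (OmegaSh.dOmega f) i.unop.le a }
    (fun U r a => dSect_pow_mul f p U.unop r a)⟩

theorem unit_comp_frobDer : ClSub.unitToPush (FrobSch.frob X p) ≫ frobDer f p = 0 := by
  ext U t
  show OmegaSh.dSect f U ((show Γ(X, U) from t) ^ p) = 0
  have h := dSect_pow_mul f p U (show Γ(X, U) from t) 1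
  rw [mul_one] at h
  rw [h]
  have h1 : OmegaSh.dSect f U (1 : Γ(X, U)) = 0 := by
    have := OmegaSh.dSect_mul f U (1 : Γ(X, U)) 1
    rw [one_mul, one_smul] at this
    exact left_eq_add.1 this
  rw [h1, smul_zero]

theorem mono_desc_frobDer [CharP k p] [PerfectRing k p] (hn : Pi1.IsNormalScheme X) :
    Mono (cokernel.desc (ClSub.unitToPush (FrobSch.frob X p)) (frobDer f p) (unit_comp_frobDer f p)) := by
  set π := cokernel.π (ClSub.unitToPush (FrobSch.frob X p))
  refine QC70.mono_of_app_injective _ fun U => (injective_iff_map_eq_zero _).2 fun z hz => ?_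
  refine QC70.section_ext _ _ _ fun y hy => ?_
  obtain ⟨V, hVU, a, hyV, ha⟩ := QC70.exists_local_lift π z hy
  have hda : OmegaSh.dSect f V a = 0 := by
    have h1 : (cokernel.desc _ (frobDer f p) (unit_comp_frobDer f p)).app V (π.app V a) = 0 := by
      rw [ha, QC70.app_res, hz]
      exact map_zero _
    have h2 : (π ≫ cokernel.desc _ (frobDer f p) (unit_comp_frobDer f p)).app V a = 0 := h1
    rw [cokernel.π_desc] at h2
    exact h2
  obtain ⟨hd, hi⟩ := hn y
  haveI := hd
  haveI := hi
  obtain ⟨b, hb⟩ := exists_root_stalk f p y hyV (show Γ(X, V) from a) hda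
  obtain ⟨W, hyW, b, rfl⟩ := TopCat.Presheaf.exists_germ_eq X.presheaf b
  obtain ⟨W', hyW', i₁, i₂, heq⟩ := X.presheaf.germ_eq y hyW hyV (b ^ p) (show Γ(X, V) from a)
    (by rw [map_pow]; exact hb)
  refine ⟨W', i₂.le.trans hVU, hyW', ?_⟩
  have hz' : QC70.res _ (i₂.le.trans hVU) z = π.app W' (QC70.res _ i₂.le a) := by
    rw [QC70.app_res, ha, QC70.res_res]
  rw [hz']
  have : QC70.res (pf p (Coh.structureModule X)) i₂.le a =
      (ClSub.unitToPush (FrobSch.frob X p)).app W' (X.presheaf.map i₁.op b) := by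
    refine Eq.trans heq.symm ?_
    exact map_pow (X.presheaf.map i₁.op).hom b p
  rw [this]
  have h0 : (ClSub.unitToPush (FrobSch.frob X p) ≫ π).app W' (X.presheaf.map i₁.op b) = 0 := by
    rw [cokernel.condition]; rfl
  exact h0.trans (map_zero _).symm

omit [Fact p.Prime] in
theorem tensUnitLeft_inv_app (M : X.Modules) (U : X.Opens) (l : Γ(M, U)) :
    (EGA73.tensUnitLeft M).inv.app U l = Amp73.tm (Coh.structureModule X) M (1 : Γ(X, U)) l := by
  have h := congrArg (fun z => (EGA73.tensUnitLeft M).inv.app U z)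
    ((Var76.Reg.tensUnitLeft_tm M (1 : Γ(X, U)) l).trans (one_smul _ _))
  refine h.symm.trans ?_
  exact congrArg (fun φ : CohB1.tensorMod (Coh.structureModule X) M ⟶ CohB1.tensorMod (Coh.structureModule X) M =>
    φ.app U (Amp73.tm (Coh.structureModule X) M (1 : Γ(X, U)) l)) (EGA73.tensUnitLeft M).hom_inv_id

set_option maxHeartbeats 1000000 in
theorem unit_eq (E : X.Modules) :
    (Scheme.Modules.pullbackPushforwardAdjunction (FrobSch.frob X p)).unit.app E =
      (EGA73.tensUnitLeft E).inv ≫ Var76.Reg.whiskR (ClSub.unitToPush (FrobSch.frob X p)) E ≫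
        ValVan29.projHom (FrobSch.frob X p) (Coh.structureModule X) E ≫
        (Coh.push (FrobSch.frob X p)).map (EGA73.tensUnitLeft _).hom := by
  ext U l
  refine Eq.symm ?_
  show ((Coh.push (FrobSch.frob X p)).map (EGA73.tensUnitLeft _).hom).app U
    ((ValVan29.projHom (FrobSch.frob X p) (Coh.structureModule X) E).app U
      ((Var76.Reg.whiskR (ClSub.unitToPush (FrobSch.frob X p)) E).app U ((EGA73.tensUnitLeft E).inv.app U l))) = _
  rw [tensUnitLeft_inv_app, Var76.Reg.whiskR_tm]
  have h1 : ((FrobSch.frob X p).app U).hom (1 : Γ(X, U)) = 1 := map_one _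
  refine (congrArg _ ((ValVan29.projPairing (FrobSch.frob X p) (Coh.structureModule X) E).lift_tmul U _ l)).trans ?_
  refine (Var76.Reg.tensUnitLeft_tm _ (((FrobSch.frob X p).app U).hom (1 : Γ(X, U))) _).trans ?_
  rw [h1, one_smul]
  rfl

omit [FrobSch.IsCharP X p] [Fact p.Prime] in
theorem hmap_injective_of_isIso (k : Type u) [Field k] [X.Over (Spec (CommRingCat.of k))] {M N : X.Modules}
    (φ : M ⟶ N) [IsIso φ] (n : ℕ) : Function.Injective (Crv77.hmap k φ n) := fun a b h => by
  have := congrArg (Crv77.hmap k (inv φ) n) h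
  rwa [Crv77.hmap_comp, Crv77.hmap_comp, IsIso.hom_inv_id, Crv77.hmap_id, Crv77.hmap_id] at this

omit [FrobSch.IsCharP X p] [Fact p.Prime] in
theorem hmap_injective_of_comp (k : Type u) [Field k] [X.Over (Spec (CommRingCat.of k))]
    (n : ℕ) {A B C D G : X.Modules} (u : A ⟶ G) (a : A ⟶ B) (b : B ⟶ C) (c : C ⟶ D) (d : D ⟶ G)
    [IsIso a] [IsIso c] [IsIso d] (h : u = a ≫ b ≫ c ≫ d)
    (hb : Function.Injective (Crv77.hmap k b n)) : Function.Injective (Crv77.hmap k u n) := by
  subst h
  intro x y hxy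
  rw [← Crv77.hmap_comp, ← Crv77.hmap_comp, ← Crv77.hmap_comp, ← Crv77.hmap_comp, ← Crv77.hmap_comp,
    ← Crv77.hmap_comp] at hxy
  exact hmap_injective_of_isIso k a n
    (hb (hmap_injective_of_isIso k c n (hmap_injective_of_isIso k d n hxy)))

set_option maxHeartbeats 1600000 in
theorem injective_unit_h1 [CharP k p] [PerfectRing k p] [X.Over (Spec (CommRingCat.of k))] [IsReduced X]
    (hn : Pi1.IsNormalScheme X) {E : X.Modules} (hE : FlatMod.IsFinLocFree E)
    (h0 : Subsingleton (Coh.HH X (CohB1.tensorMod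
      ((Scheme.Modules.pullback (FrobSch.frob X p)).obj E) (Omega.sheaf f)) 0)) :
    Function.Injective (Crv77.hmap k
      ((Scheme.Modules.pullbackPushforwardAdjunction (FrobSch.frob X p)).unit.app E) 1) := by
  let η := ClSub.unitToPush (FrobSch.frob X p)
  have := mono_unitToPush_frob (X := X) p
  let S : ShortComplex X.Modules := ShortComplex.mk η (cokernel.π η) (cokernel.condition η)
  have hS : S.ShortExact :=
    { exact := ShortComplex.exact_of_g_is_cokernel _ (cokernelIsCokernel η) }
  have hflat := QC70.locally_flat_of_isFinLocFree hE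
  let m : S.X₃ ⟶ pf p (Omega.sheaf f) := cokernel.desc η (frobDer f p) (unit_comp_frobDer f p)
  have hm : Mono m := mono_desc_frobDer f p hn
  obtain ⟨h0T, hT⟩ := Crv77.exists_tR_shortExact (O := X.sheaf) E hflat hS
  let T : ShortComplex X.Modules := ShortComplex.mk (Var76.Reg.whiskR η E) (Var76.Reg.whiskR S.g E) h0T
  let Ω' := CohB1.tensorMod (Omega.sheaf f) ((Scheme.Modules.pullback (FrobSch.frob X p)).obj E)
  haveI : Mono (Var76.Reg.whiskR m E) :=
    @Crv77.mono_tR_map_of_locally_flat _ _ _ X.sheaf E hflat _ _ m hm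
  haveI := KRR40.isIso_projHom_vb (FrobSch.frob X p) (Omega.sheaf f) hE
  let ψ : T.X₃ ⟶ (Coh.push (FrobSch.frob X p)).obj Ω' :=
    Var76.Reg.whiskR m E ≫ ValVan29.projHom (FrobSch.frob X p) (Omega.sheaf f) E
  haveI : Mono ψ := mono_comp _ _
  haveI : Subsingleton (Coh.HH X Ω' 0) :=
    ValVan29.subsingleton_hh_of_iso (EGA73.tensComm _ _) 0 h0
  haveI : Subsingleton (Γ(Ω', ⊤)) := (Crv77.sec Ω').toEquiv.symm.subsingleton
  have hT0 : Subsingleton (Coh.HH X T.X₃ 0) := by
    refine ⟨fun a b => (Crv77.sec T.X₃).injective (QC70.app_injective_of_mono ψ ⊤ ?_)⟩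
    exact @Subsingleton.elim Γ(Ω', ⊤) inferInstance _ _
  have hinj : Function.Injective (Crv77.hmap k T.f 1) := by
    refine (injective_iff_map_eq_zero _).2 fun x hx => ?_
    obtain ⟨w, rfl⟩ := (Crv77.exact_δ_f k hT 0 x).1 hx
    exact (congrArg _ (hT0.elim w 0)).trans (map_zero _)
  haveI := KRR40.isIso_projHom_vb (FrobSch.frob X p) (Coh.structureModule X) hE
  exact hmap_injective_of_comp k 1 _ _ _ _ _ (unit_eq (X := X) p E) hinj

end Groth.Agent.Frob53
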