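import Mathlib
import Groth.Agent.ValVan29.PushTwist
import Groth.Agent.Amp73.Powers
import Groth.Agent.Mero90.Frames
import Groth.Prelude.Def_ClSub2
import Groth.Prelude.Def_Frob

/-!
# The `p`-th power map of an invertible module and its retraction for a split Frobenius
-/

universe u

open CategoryTheory CategoryTheory.Limits AlgebraicGeometry Opposite TopologicalSpace

noncomputable section

namespace Groth.Agent.Frob53

open Var76.LineBundle Var76.ZeroScheme Amp73

variable (p : ℕ) [Fact p.Prime] {X : Scheme.{u}} [FrobSch.IsCharP X p]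

/-- Sections of the pushforward along Frobenius. -/
abbrev pf (M : X.Modules) : X.Modules := (Coh.push (FrobSch.frob X p)).obj M

theorem smul_pf (M : X.Modules) (U : X.Opens) (r : Γ(X, U)) (a : Γ(pf p M, U)) :
    r • a = ((r ^ p) • (show Γ(M, U) from a) : Γ(M, U)) := rfl

theorem add_pow_p {U : X.Opens} (a b : Γ(X, U)) : (a + b) ^ p = a ^ p + b ^ p :=
  (FrobSch.powHom p Γ(X, U) (FrobSch.natCast_eq_zero_app X p U)).map_add a b

variable {L : X.Modules}

/-- The `p`-th tensor power is additive for invertible modules. -/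
theorem epow_add (hL : PicF.IsInvertible L) {U : X.Opens} (a b : Γ(L, U)) :
    epow (a + b) p = epow a p + epow b p := by
  refine eq_of_locally _ _ _ fun x hx => ?_
  obtain ⟨W, hxW, hWU, e, he⟩ := Mero90.exists_affine_frame hL x U hx
  refine ⟨W.1, hWU, hxW, ?_⟩
  have hadd : res L hWU (a + b) = res L hWU a + res L hWU b := map_add _ _ _
  have hadd' : res (CohB1.tensorPow L p) hWU (epow a p + epow b p) =
      res _ hWU (epow a p) + res _ hWU (epow b p) := map_add _ _ _
  rw [res_epow, hadd, hadd', res_epow, res_epow]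
  obtain ⟨c, hc⟩ := (he W.1 le_rfl).2 (res L hWU a)
  obtain ⟨d, hd⟩ := (he W.1 le_rfl).2 (res L hWU b)
  dsimp only at hc hd
  rw [← hc, ← hd, ← add_smul, epow_smul, epow_smul, epow_smul, add_pow_p, add_smul]

/-- The comparison pairing `F_*O × L → F_*(L^p)`. -/
def frobPairing (hL : PicF.IsInvertible L) :
    Mero90.Pairing (pf p (Coh.structureModule X)) L (pf p (CohB1.tensorPow L p)) where
  b U a l := ((show Γ(X, U) from a) • epow l p : Γ(CohB1.tensorPow L p, U))
  add_left U a a' l := add_smul (show Γ(X, U) from a) (show Γ(X, U) from a') (epow l p)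
  add_right U a l l' := by
    show (show Γ(X, U) from a) • epow (l + l') p = (_ : Γ(CohB1.tensorPow L p, U))
    rw [epow_add p hL, smul_add]
    rfl
  smul_left U r a l := mul_smul (r ^ p) (show Γ(X, U) from a) (epow l p)
  smul_right U r a l := by
    show (show Γ(X, U) from a) • epow (r • l) p = (r ^ p) • ((show Γ(X, U) from a) • epow l p)
    rw [epow_smul, smul_comm]
  nat U V h a l := by
    show (show Γ(X, V) from res (Coh.structureModule X) h (show Γ(X, U) from a)) • epow (res L h l) p =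
      res (CohB1.tensorPow L p) h ((show Γ(X, U) from a) • epow l p)
    rw [← res_epow]
    exact (Scheme.Modules.map_smul (CohB1.tensorPow L p) (homOfLE h) _ _).symm

/-- The comparison `F_*O ⊗ L → F_*(L^p)`. -/
def frobHom (hL : PicF.IsInvertible L) :
    CohB1.tensorMod (pf p (Coh.structureModule X)) L ⟶ pf p (CohB1.tensorPow L p) :=
  (frobPairing p hL).lift

theorem isIso_frobHom (hL : PicF.IsInvertible L) : IsIso (frobHom p hL) := by
  refine ValVan29.isIso_of_bijective_small _ fun x => ?_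
  obtain ⟨W, hxW, -, e, he⟩ := Mero90.exists_affine_frame hL x ⊤ trivial
  refine ⟨W.1, hxW, fun V hV => ?_⟩
  let ψ : Γ(pf p (Coh.structureModule X), V) →
      Γ(CohB1.tensorMod (pf p (Coh.structureModule X)) L, V) := fun a => tm _ L a (res L hV e)
  have hψ : Function.Bijective ψ :=
    ⟨fun a a' h => tm_frame_injective he hV a a' h, fun z => exists_eq_tm_frame he hV z⟩
  have hF := isFrame_epow he p V hV
  rw [res_epow] at hF
  refine (Function.Bijective.of_comp_iff _ hψ).1 ?_
  have hcomp : ((frobHom p hL).app V ∘ ψ : Γ(pf p (Coh.structureModule X), V) → _) =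
      fun a => ((show Γ(X, V) from a) • epow (res L hV e) p : Γ(CohB1.tensorPow L p, V)) :=
    funext fun a => (frobPairing p hL).lift_tmul V a (res L hV e)
  rw [hcomp]
  exact hF

variable (L) in
/-- Tensoring a morphism with `L`. -/
def tensL {M N : X.Modules} (φ : M ⟶ N) : CohB1.tensorMod M L ⟶ CohB1.tensorMod N L :=
  (Mod48.shf (O := X.sheaf)).map
    (MonoidalCategory.tensorHom ((Mod48.fgt (O := X.sheaf)).map φ) ((Mod48.fgt (O := X.sheaf)).map (𝟙 L)))

theorem tensL_comp {M N P : X.Modules} (φ : M ⟶ N) (ψ : N ⟶ P) :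
    tensL L (φ ≫ ψ) = tensL L φ ≫ tensL L ψ := by
  let F := Mod48.fgt (O := X.sheaf)
  refine Eq.trans (congrArg (Mod48.shf (O := X.sheaf)).map ?_) ((Mod48.shf (O := X.sheaf)).map_comp _ _)
  refine Eq.trans ?_ (MonoidalCategory.tensorHom_comp_tensorHom (F.map φ) (F.map (𝟙 L)) (F.map ψ) (F.map (𝟙 L))).symm
  exact congrArg₂ MonoidalCategory.tensorHom (F.map_comp φ ψ)
    ((congrArg F.map (Category.comp_id (𝟙 L)).symm).trans (F.map_comp (𝟙 L) (𝟙 L)))

theorem tensL_id (M : X.Modules) : tensL L (𝟙 M) = 𝟙 (CohB1.tensorMod M L) := by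
  let F := Mod48.fgt (O := X.sheaf)
  refine Eq.trans (congrArg (Mod48.shf (O := X.sheaf)).map ?_) ((Mod48.shf (O := X.sheaf)).map_id _)
  exact (congrArg₂ MonoidalCategory.tensorHom (F.map_id M) (F.map_id L)).trans
    (MonoidalCategory.id_tensorHom_id _ _)

/-- The `O`-linear retraction `F_*O → O` of a Frobenius splitting. -/
def splitHom (s : Coh.toAb (Coh.structureModule X) ⟶ Coh.toAb (Coh.structureModule X))
    (hlin : ∀ (U : X.Opens) (a b : Γ(X, U)),
      s.hom.app (op U) (a ^ p * b) = a * @id Γ(X, U) (s.hom.app (op U) b)) :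
    pf p (Coh.structureModule X) ⟶ Coh.structureModule X :=
  ⟨PresheafOfModules.homMk
    { app := fun U => s.hom.app U
      naturality := fun _ _ i => s.hom.naturality i }
    (fun U r a => hlin U.unop r a)⟩

theorem unitToPush_splitHom
    (φ : Coh.toAb (Coh.structureModule X) ⟶ Coh.toAb (Coh.structureModule X))
    (hφ : ∀ (U : X.Opens) (t : Γ(X, U)), φ.hom.app (op U) t = t ^ p)
    (s : Coh.toAb (Coh.structureModule X) ⟶ Coh.toAb (Coh.structureModule X)) (hs : φ ≫ s = 𝟙 _)
    (hlin : ∀ (U : X.Opens) (a b : Γ(X, U)),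
      s.hom.app (op U) (a ^ p * b) = a * @id Γ(X, U) (s.hom.app (op U) b)) :
    ClSub.unitToPush (FrobSch.frob X p) ≫ splitHom p s hlin = 𝟙 (Coh.structureModule X) := by
  ext U t
  have h := congrArg (fun q : Coh.toAb (Coh.structureModule X) ⟶ Coh.toAb (Coh.structureModule X) =>
    q.hom.app (op U) t) hs
  change s.hom.app (op U) (φ.hom.app (op U) t) = t at h
  rw [hφ U t] at h
  exact h

/-- For a split Frobenius, `L` is a direct summand of `F_*(L^p)`. -/
theorem exists_splitMono (hL : PicF.IsInvertible L)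
    (φ : Coh.toAb (Coh.structureModule X) ⟶ Coh.toAb (Coh.structureModule X))
    (hφ : ∀ (U : X.Opens) (t : Γ(X, U)), φ.hom.app (op U) t = t ^ p)
    (s : Coh.toAb (Coh.structureModule X) ⟶ Coh.toAb (Coh.structureModule X)) (hs : φ ≫ s = 𝟙 _)
    (hlin : ∀ (U : X.Opens) (a b : Γ(X, U)),
      s.hom.app (op U) (a ^ p * b) = a * @id Γ(X, U) (s.hom.app (op U) b)) :
    ∃ (i : L ⟶ pf p (CohB1.tensorPow L p)) (r : pf p (CohB1.tensorPow L p) ⟶ L), i ≫ r = 𝟙 L := by
  have := isIso_frobHom p hL
  refine ⟨(EGA73.tensUnitLeft L).inv ≫ tensL L (ClSub.unitToPush (FrobSch.frob X p)) ≫ frobHom p hL,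
    inv (frobHom p hL) ≫ tensL L (splitHom p s hlin) ≫ (EGA73.tensUnitLeft L).hom, ?_⟩
  simp only [Category.assoc, IsIso.hom_inv_id_assoc]
  rw [← Category.assoc (tensL L _) (tensL L _), ← tensL_comp, unitToPush_splitHom p φ hφ s hs hlin,
    tensL_id, Category.id_comp, Iso.inv_hom_id]

end Groth.Agent.Frob53

end
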