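import Mathlib
import Groth.Prelude.Def_Frob
import Groth.Agent.RelFrob7.Smooth

/-!
# The relative Frobenius on affine charts
-/

set_option autoImplicit false
universe u

open CategoryTheory CategoryTheory.Limits AlgebraicGeometry TensorProduct

namespace Groth.Agent.Frob53

variable (p : ℕ) [Fact p.Prime]

omit [Fact p.Prime] in
theorem natCast_eq_zero_of_isCharP_Spec (A : CommRingCat.{u}) [FrobSch.IsCharP (Spec A) p] :
    (p : A) = 0 := by
  have h := congrArg (Scheme.ΓSpecIso A).hom.hom (FrobSch.IsCharP.natCast_eq_zero (X := Spec A) (p := p))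
  simpa using h

/-- The absolute Frobenius of an affine scheme is `Spec` of the `p`-th power map. -/
theorem frob_Spec (A : Type u) [CommRing A] [CharP A p] :
    FrobSch.frob (Spec (CommRingCat.of A)) p = Spec.map (CommRingCat.ofHom (frobenius A p)) := by
  refine ext_of_isAffine (CommRingCat.hom_ext (RingHom.ext fun s => ?_))
  rw [FrobSch.frob_appTop]
  refine (Scheme.ΓSpecIso (CommRingCat.of A)).commRingCatIsoToRingEquiv.injective ?_
  have h := RingHom.congr_fun (congrArg CommRingCat.Hom.hom
    (Scheme.ΓSpecIso_naturality (CommRingCat.ofHom (frobenius A p)))) s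
  simp only [CommRingCat.hom_comp, RingHom.comp_apply, CommRingCat.hom_ofHom] at h
  exact (map_pow (Scheme.ΓSpecIso (CommRingCat.of A)).hom.hom s p).trans h.symm

/-- Flatness of the relative Frobenius of a smooth morphism of affine schemes. -/
theorem flat_relFrob_Spec (A B : Type u) [CommRing A] [CommRing B] [Algebra A B] [Algebra.Smooth A B]
    [FrobSch.IsCharP (Spec (CommRingCat.of A)) p] :
    Flat (FrobSch.relFrob (Spec.map (CommRingCat.ofHom (algebraMap A B))) p) := by
  rcases subsingleton_or_nontrivial B with hB | hB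
  · have : IsEmpty ↥(Spec (CommRingCat.of B)) := inferInstanceAs (IsEmpty (PrimeSpectrum B))
    infer_instance
  have : Nontrivial A := (algebraMap A B).domain_nontrivial
  have : CharP A p := (CharP.charP_iff_prime_eq_zero Fact.out).2
    (natCast_eq_zero_of_isCharP_Spec p (CommRingCat.of A))
  have : CharP B p := (CharP.charP_iff_prime_eq_zero Fact.out).2 (by
    rw [← map_natCast (algebraMap A B), CharP.cast_eq_zero, map_zero])
  let g : Spec (CommRingCat.of B) ⟶ Spec (CommRingCat.of A) :=
    Spec.map (CommRingCat.ofHom (algebraMap A B))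
  have : FrobSch.IsCharP (Spec (CommRingCat.of B)) p := FrobSch.IsCharP.of_hom g p
  let tw : Spec (CommRingCat.of A) ⟶ Spec (CommRingCat.of A) :=
    Spec.map (CommRingCat.ofHom (algebraMap A (FrobAlg.Twist p A)))
  have htw : FrobSch.frob (Spec (CommRingCat.of A)) p = tw := frob_Spec p A
  let e : FrobSch.frobTwist g p ≅ Spec (CommRingCat.of (FrobAlg.BaseChange p A B)) :=
    pullback.congrHom rfl htw ≪≫ pullbackSpecIso A B (FrobAlg.Twist p A)
  have e1 : e.inv ≫ pullback.fst g _ =
      Spec.map (CommRingCat.ofHom (Algebra.TensorProduct.includeLeftRingHom :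
        B →+* B ⊗[A] FrobAlg.Twist p A)) := by
    simp only [e, Iso.trans_inv, Category.assoc, pullback.congrHom_inv]
    erw [pullback.lift_fst, Category.comp_id]
    exact pullbackSpecIso_inv_fst _ _ _
  have e2 : e.inv ≫ pullback.snd g _ =
      Spec.map (CommRingCat.ofHom (Algebra.TensorProduct.includeRight.toRingHom :
        FrobAlg.Twist p A →+* B ⊗[A] FrobAlg.Twist p A)) := by
    simp only [e, Iso.trans_inv, Category.assoc, pullback.congrHom_inv]
    erw [pullback.lift_snd, Category.comp_id]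
    exact pullbackSpecIso_inv_snd _ _ _
  have key : FrobSch.relFrob g p =
      Spec.map (CommRingCat.ofHom (FrobAlg.relFrob p A B)) ≫ e.inv := by
    refine pullback.hom_ext ?_ ?_
    · rw [FrobSch.relFrob_fst, Category.assoc, e1, frob_Spec p B]
      refine Eq.trans ?_ (Spec.map_comp _ _)
      congr 1
      ext b
      simp [FrobAlg53.relFrob_tmul, frobenius_def]
    · rw [FrobSch.relFrob_snd, Category.assoc, e2]
      refine Eq.trans ?_ (Spec.map_comp _ _)
      simp only [g]
      congr 1
      ext a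
      change algebraMap A B a = FrobAlg.relFrob p A B ((1 : B) ⊗ₜ[A] FrobAlg.toTwist p A a)
      rw [FrobAlg53.relFrob_tmul]
      simp
  rw [key]
  have hflat : (FrobAlg.relFrob p A B).Flat := RelFrob7.flat_relFrob_of_smooth p A B
  have : Flat (Spec.map (CommRingCat.ofHom (FrobAlg.relFrob p A B))) :=
    HasRingHomProperty.Spec_iff.2 hflat
  infer_instance

theorem relFrob_square {X S U V : Scheme.{u}} [FrobSch.IsCharP S p] [FrobSch.IsCharP V p]
    (f : X ⟶ S) (g : U ⟶ V) (i : U ⟶ X) (j : V ⟶ S) (h : g ≫ j = i ≫ f) :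
    i ≫ FrobSch.relFrob f p = FrobSch.relFrob g p ≫
      pullback.map g (FrobSch.frob V p) f (FrobSch.frob S p) i j j h (FrobSch.frob_comp p j) := by
  have : FrobSch.IsCharP X p := FrobSch.IsCharP.of_hom f p
  have : FrobSch.IsCharP U p := FrobSch.IsCharP.of_hom g p
  refine pullback.hom_ext ?_ ?_
  · rw [Category.assoc, Category.assoc, FrobSch.relFrob_fst, pullback.map, pullback.lift_fst,
      FrobSch.relFrob_fst_assoc, FrobSch.frob_comp]
  · rw [Category.assoc, Category.assoc, FrobSch.relFrob_snd, pullback.map, pullback.lift_snd,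
      FrobSch.relFrob_snd_assoc, h]

/-- The relative Frobenius of a smooth morphism is flat. -/
theorem flat_relFrob {X S : Scheme.{u}} [FrobSch.IsCharP S p] (f : X ⟶ S) [Smooth f] :
    Flat (FrobSch.relFrob f p) := by
  have hchart : ∀ x : X, ∃ (U : X.affineOpens) (V : S.affineOpens), x ∈ U.1 ∧ U.1 ≤ f ⁻¹ᵁ V.1 := by
    intro x
    obtain ⟨V, hV, hxV, -⟩ := exists_isAffineOpen_mem_and_subset (X := S) (x := f x) (U := ⊤) trivial
    obtain ⟨U, hU, hxU, hUV⟩ := exists_isAffineOpen_mem_and_subset (X := X) (x := x) (U := f ⁻¹ᵁ V) hxV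
    exact ⟨⟨U, hU⟩, ⟨V, hV⟩, hxU, hUV⟩
  choose U V hxU hUV using hchart
  refine IsZariskiLocalAtSource.of_iSup_eq_top (P := @Flat) (fun x => (U x).1)
    (eq_top_iff.2 fun x _ => TopologicalSpace.Opens.mem_iSup.2 ⟨x, hxU x⟩) fun x => ?_
  let φ := f.appLE (V x).1 (U x).1 (hUV x)
  let := φ.hom.toAlgebra
  have : Algebra.Smooth Γ(S, (V x).1) Γ(X, (U x).1) :=
    RingHom.smooth_algebraMap.1 (f.smooth_appLE (V x).2 (U x).2 (hUV x))
  let j : Spec Γ(S, (V x).1) ⟶ S := (V x).2.fromSpec
  let i : Spec Γ(X, (U x).1) ⟶ X := (U x).2.fromSpec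
  have : FrobSch.IsCharP (Spec (CommRingCat.of Γ(S, (V x).1))) p := FrobSch.IsCharP.of_hom j p
  have h1 : Flat (FrobSch.relFrob (Spec.map φ) p) :=
    flat_relFrob_Spec p Γ(S, (V x).1) Γ(X, (U x).1)
  have hsq : Spec.map φ ≫ j = i ≫ f :=
    IsAffineOpen.SpecMap_appLE_fromSpec f (V x).2 (U x).2 (hUV x)
  have h2 : Flat (i ≫ FrobSch.relFrob f p) := by
    rw [relFrob_square p f (Spec.map φ) i j hsq]
    infer_instance
  rw [← (U x).2.isoSpec_hom_fromSpec, Category.assoc]
  exact (MorphismProperty.cancel_left_of_respectsIso (P := @Flat) _ _).2 h2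

end Groth.Agent.Frob53
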