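import Groth.Agent.Frob53.FrobLine
import Groth.Agent.Frob53.RelFrobAffine
import Groth.Agent.Var76.HHPush
import Groth.Agent.Crv77.HH
import Groth.Agent.Crv77.DegreeInt
import Groth.Agent.Serre71.Finite

/-!
# Dimensions of cohomology of Frobenius pushforwards
-/

universe u

open CategoryTheory CategoryTheory.Limits AlgebraicGeometry Opposite TopologicalSpace

noncomputable section

set_option maxSynthPendingDepth 6
set_option backward.isDefEq.respectTransparency.types false

namespace Groth.Agent.Frob53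

variable (p : ℕ) [Fact p.Prime] {k : Type u} [Field k] [CharP k p] [PerfectRing k p] {X : Scheme.{u}}

theorem toGlobal_comp_SpecMap (g : X ⟶ Spec (CommRingCat.of k)) (a : k) :
    Coh.toGlobal (g ≫ Spec.map (CommRingCat.ofHom (frobenius k p))) a =
      Coh.toGlobal g (frobenius k p a) := by
  show ((g ≫ Spec.map (CommRingCat.ofHom (frobenius k p))).appTop).hom
      ((Scheme.ΓSpecIso (CommRingCat.of k)).inv.hom a) =
    g.appTop.hom ((Scheme.ΓSpecIso (CommRingCat.of k)).inv.hom (frobenius k p a))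
  have h := congrArg (fun q => (CommRingCat.Hom.hom q) a)
    (Scheme.ΓSpecIso_inv_naturality (CommRingCat.ofHom (frobenius k p)))
  simp only [CommRingCat.hom_comp, RingHom.comp_apply, CommRingCat.hom_ofHom] at h
  rw [h]
  rfl

/-- Twisting the `k`-structure by Frobenius does not change dimensions. -/
theorem finrank_twisted (g : X ⟶ Spec (CommRingCat.of k)) (M : X.Modules) (n : ℕ) :
    @Module.finrank k (Coh.HH X M n) _ _
        (@Coh.moduleOver k _ X ⟨g ≫ Spec.map (CommRingCat.ofHom (frobenius k p))⟩ M n) =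
      @Module.finrank k (Coh.HH X M n) _ _ (@Coh.moduleOver k _ X ⟨g⟩ M n) := by
  unfold Module.finrank
  refine congrArg Cardinal.toNat ?_
  refine @rank_eq_of_equiv_equiv k k (Coh.HH X M n) (Coh.HH X M n) _ _
    (@Coh.moduleOver k _ X ⟨g ≫ Spec.map (CommRingCat.ofHom (frobenius k p))⟩ M n) _ _
    (@Coh.moduleOver k _ X ⟨g⟩ M n) (frobenius k p) (AddEquiv.refl _) (bijective_frobenius k p) ?_
  intro a x
  change Sheaf.H.map (Coh.smulAb M (Coh.toGlobal (g ≫ Spec.map (CommRingCat.ofHom (frobenius k p))) a)) n x =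
    Sheaf.H.map (Coh.smulAb M (Coh.toGlobal g (frobenius k p a))) n x
  rw [toGlobal_comp_SpecMap]

variable [FrobSch.IsCharP X p] [X.Over (Spec (CommRingCat.of k))]
  [IsProper (X ↘ Spec (CommRingCat.of k))]

/-- The cohomology of `F_*M` has the dimension of that of `M`. -/
theorem finite_and_finrank_pf (M : X.Modules) (hM : Coh.IsCoh M) (n : ℕ) :
    Module.Finite k (Coh.HH X (pf p M) n) ∧
      Module.finrank k (Coh.HH X (pf p M) n) = Module.finrank k (Coh.HH X M n) := by
  have hsq : FrobSch.frob X p ≫ (X ↘ Spec (CommRingCat.of k)) =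
      (X ↘ Spec (CommRingCat.of k)) ≫ Spec.map (CommRingCat.ofHom (frobenius k p)) := by
    rw [FrobSch.frob_comp, frob_Spec p k]
  have : IsAffineHom (FrobSch.frob X p) := ⟨fun _ hU => hU⟩
  have := hM.1
  have hq : ((Coh.push (FrobSch.frob X p)).obj M).IsQuasicoherent :=
    QCqs72.isQuasicoherent_pushforward M (FrobSch.frob X p)
  let g' := (X ↘ Spec (CommRingCat.of k)) ≫ Spec.map (CommRingCat.ofHom (frobenius k p))
  have : IsIso (CommRingCat.ofHom (frobenius k p)) :=
    (ConcreteCategory.isIso_iff_bijective _).2 (bijective_frobenius k p)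
  have hproper : IsProper g' := inferInstance
  obtain ⟨e⟩ := @Var76.nonempty_hhLin_push k _ X X (FrobSch.frob X p) ⟨g'⟩ _ _ _ hsq M _ hq n
  have hfin := @Serre71.finite_hh_of_isProper k _ _ X ⟨g'⟩ hproper M hM n
  exact ⟨@Module.Finite.equiv k (Coh.HH X M n) (Coh.HH X (pf p M) n) _ _
    (@Coh.moduleOver k _ X ⟨g'⟩ M n) _ _ hfin e.symm,
    (@LinearEquiv.finrank_eq k (Coh.HH X (pf p M) n) (Coh.HH X M n) _ _ _ _
      (@Coh.moduleOver k _ X ⟨g'⟩ M n) e).trans (finrank_twisted p _ M n)⟩

theorem finrank_le_of_split (L : X.Modules) (hL : PicF.IsInvertible L) (n : ℕ)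
    (φ : Coh.toAb (Coh.structureModule X) ⟶ Coh.toAb (Coh.structureModule X))
    (hφ : ∀ (U : X.Opens) (t : Γ(X, U)), φ.hom.app (op U) t = t ^ p)
    (s : Coh.toAb (Coh.structureModule X) ⟶ Coh.toAb (Coh.structureModule X)) (hs : φ ≫ s = 𝟙 _)
    (hlin : ∀ (U : X.Opens) (a b : Γ(X, U)),
      s.hom.app (op U) (a ^ p * b) = a * @id Γ(X, U) (s.hom.app (op U) b)) :
    Module.finrank k (Coh.HH X L n) ≤ Module.finrank k (Coh.HH X (CohB1.tensorPow L p) n) := by
  obtain ⟨i, r, hir⟩ := exists_splitMono p hL φ hφ s hs hlin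
  obtain ⟨hfin, heq⟩ := finite_and_finrank_pf p (k := k) (CohB1.tensorPow L p)
    (Crv77.isCoh_of_isInvertible (EGA73.isInvertible_tensorPow hL p)) n
  refine le_trans (LinearMap.finrank_le_finrank_of_injective (f := Crv77.hmap k i n) fun a b h => ?_) heq.le
  have := congrArg (Crv77.hmap k r n) h
  rwa [Crv77.hmap_comp, Crv77.hmap_comp, hir, Crv77.hmap_id, Crv77.hmap_id] at this

end Groth.Agent.Frob53

end
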