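import Mathlib
import Groth.Prelude.Def_W4c3convisocdirimgFrobIter

/-!
# Frobenius between the Frobenius kernels
-/

set_option autoImplicit false
universe u

open CategoryTheory CategoryTheory.Limits AlgebraicGeometry

namespace Groth.Agent.Frob53

variable (T : Scheme.{u}) (p : ℕ) [Fact p.Prime] [FrobSch.IsCharP T p]

theorem frobIter_comm (n : ℕ) :
    FrobSch.frobIter T p n ≫ FrobSch.frob T p = FrobSch.frob T p ≫ FrobSch.frobIter T p n :=
  (FrobSch.frob_comp p (FrobSch.frobIter T p n)).symm

/-- Frobenius maps `T^(n)` into `T^(n+1)`. -/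
theorem exists_frob_step (n : ℕ) :
    ∃ h : (FrobSch.frobIter T p n).ker.subscheme ⟶ (FrobSch.frobIter T p (n + 1)).ker.subscheme,
      h ≫ (FrobSch.frobIter T p (n + 1)).ker.subschemeι =
        (FrobSch.frobIter T p n).ker.subschemeι ≫ FrobSch.frob T p := by
  refine ⟨IsClosedImmersion.lift (FrobSch.frobIter T p (n + 1)).ker.subschemeι
    ((FrobSch.frobIter T p n).ker.subschemeι ≫ FrobSch.frob T p) ?_, IsClosedImmersion.lift_fac _ _ _⟩
  rw [Scheme.IdealSheafData.ker_subschemeι, FrobSch.frobIter_succ, ← frobIter_comm,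
    Scheme.Hom.ker_comp]
  rfl

end Groth.Agent.Frob53
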