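import Mathlib
import Groth.Prelude.Def_W4c5isocrystsimpconnFrobH
import Groth.Agent.Omega57.PullFree
import Groth.Agent.Crv77.HH
import Groth.Agent.KRR40.Pull
import Groth.Agent.EGA73.Invertible

/-!
# Frobenius pull-backs of iterated extensions of the structure module
-/

set_option autoImplicit false
set_option backward.isDefEq.respectTransparency.types false
universe u

open CategoryTheory CategoryTheory.Limits AlgebraicGeometry Opposite CategoryTheory.Abelian
  TopologicalSpace

noncomputable section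

namespace Groth.Agent.Frob53

section Gen

universe w v'

variable {C : Type*} [Category.{v'} C] [Abelian C] [HasExt.{w} C]

/-- Connecting maps commute with morphisms of short exact sequences. -/
theorem gδ_natural (Z : C) {S₁ S₂ : ShortComplex C} (h₁ : S₁.ShortExact) (h₂ : S₂.ShortExact)
    (f : S₁ ⟶ S₂) (n : ℕ) (x : Ext.{w} Z S₁.X₃ n) :
    Crv77.gδ Z h₂ n (Ext.comp x (Ext.mk₀ f.τ₃) (add_zero n)) =
      Ext.comp (Crv77.gδ Z h₁ n x) (Ext.mk₀ f.τ₁) (add_zero (n + 1)) := by
  change Ext.comp (Ext.comp x (Ext.mk₀ f.τ₃) (add_zero n)) _ rfl =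
    Ext.comp (Ext.comp x _ rfl) (Ext.mk₀ f.τ₁) (add_zero (n + 1))
  rw [Ext.comp_assoc_of_second_deg_zero, Ext.comp_assoc_of_third_deg_zero,
    ShortComplex.ShortExact.extClass_naturality h₁ h₂ f]

end Gen

variable (p : ℕ) [Fact p.Prime] (X : Scheme.{u}) [FrobSch.IsCharP X p]

/-- Frobenius pull-back. -/
abbrev frobPull : X.Modules ⥤ X.Modules := Scheme.Modules.pullback (FrobSch.frob X p)

/-- Iterated Frobenius pull-back. -/
def frobPullPow : ℕ → (X.Modules ⥤ X.Modules)
  | 0 => 𝟭 _
  | n + 1 => frobPull p X ⋙ frobPullPow n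

theorem frobPullPow_obj (n : ℕ) (E : X.Modules) :
    (frobPullPow p X n).obj E =
      ((Scheme.Modules.pullback (FrobSch.frob X p)).obj)^[n] E := by
  induction n generalizing E with
  | zero => rfl
  | succ n ih => exact ih _

instance frobPull_additive : (frobPull p X).Additive :=
  (Scheme.Modules.pullbackPushforwardAdjunction (FrobSch.frob X p)).left_adjoint_additive

theorem frobPullPow_additive (n : ℕ) : (frobPullPow p X n).Additive := by
  induction n with
  | zero => exact inferInstanceAs (𝟭 X.Modules).Additive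
  | succ n ih => exact inferInstanceAs (frobPull p X ⋙ frobPullPow p X n).Additive

instance : (SheafOfModules.pushforward.{u} (FrobSch.frob X p).toRingCatSheafHom).IsRightAdjoint :=
  (Scheme.Modules.pullbackPushforwardAdjunction (FrobSch.frob X p)).isRightAdjoint

/-- The pull-back of the structure module. -/
def theta : (frobPull p X).obj (Coh.structureModule X) ≅ Coh.structureModule X :=
  haveI := Omega57.final_opensMap (FrobSch.frob X p)
  @asIso _ _ _ _ (SheafOfModules.pullbackObjUnitToUnit.{u} (FrobSch.frob X p).toRingCatSheafHom)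
    (SheafOfModules.instIsIsoPullbackObjUnitToUnitOfFinal _)

/-- The pull-back of sections. -/
def psi (M : X.Modules) : (Crv77.toAbF X).obj M ⟶ (Crv77.toAbF X).obj ((frobPull p X).obj M) :=
  ((Crv77.toAbF X).map (X := M)
    (Y := (Scheme.Modules.pushforward (FrobSch.frob X p)).obj ((frobPull p X).obj M))
    ((Scheme.Modules.pullbackPushforwardAdjunction (FrobSch.frob X p)).unit.app M) :)

theorem psi_naturality {M N : X.Modules} (φ : M ⟶ N) :
    (Crv77.toAbF X).map φ ≫ psi p X N =
      psi p X M ≫ (Crv77.toAbF X).map ((frobPull p X).map φ) := by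
  have h := congrArg (Crv77.toAbF X).map
    ((Scheme.Modules.pullbackPushforwardAdjunction (FrobSch.frob X p)).unit.naturality φ)
  rw [Functor.map_comp, Functor.map_comp] at h
  exact h

/-- The `p`-th power map, typed on `toAbF`. -/
def frobO : (Crv77.toAbF X).obj (Coh.structureModule X) ⟶ (Crv77.toAbF X).obj (Coh.structureModule X) :=
  W4c5isocrystsimpconn.frobAb X p

theorem psi_structure : psi p X (Coh.structureModule X) ≫ (Crv77.toAbF X).map (theta p X).hom =
    frobO p X := by
  have h : (Scheme.Modules.pullbackPushforwardAdjunction (FrobSch.frob X p)).unit.app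
      (Coh.structureModule X) ≫ (Scheme.Modules.pushforward (FrobSch.frob X p)).map (theta p X).hom =
      SheafOfModules.unitToPushforwardObjUnit.{u} (FrobSch.frob X p).toRingCatSheafHom :=
    ((Scheme.Modules.pullbackPushforwardAdjunction (FrobSch.frob X p)).homEquiv_unit _ _ _).symm.trans
      (SheafOfModules.pullbackPushforwardAdjunction_homEquiv_pullbackObjUnitToUnit _)
  have h' := congrArg (Crv77.toAbF X).map h
  rw [Functor.map_comp] at h'
  refine h'.trans ?_
  rfl

/-- Iterated pull-back of sections. -/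
def psiPow : ∀ (n : ℕ) (M : X.Modules),
    (Crv77.toAbF X).obj M ⟶ (Crv77.toAbF X).obj ((frobPullPow p X n).obj M)
  | 0, _ => 𝟙 _
  | n + 1, M => psi p X M ≫ psiPow n ((frobPull p X).obj M)

theorem psiPow_naturality (n : ℕ) : ∀ {M N : X.Modules} (φ : M ⟶ N),
    (Crv77.toAbF X).map φ ≫ psiPow p X n N =
      psiPow p X n M ≫ (Crv77.toAbF X).map ((frobPullPow p X n).map φ) := by
  induction n with
  | zero => intro M N φ; exact (Category.comp_id _).trans (Category.id_comp _).symm
  | succ n ih =>
    intro M N φ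
    show (Crv77.toAbF X).map φ ≫ psi p X N ≫ psiPow p X n _ = (psi p X M ≫ psiPow p X n _) ≫ _
    rw [← Category.assoc, psi_naturality, Category.assoc, ih, Category.assoc]
    rfl

/-- The iterated pull-back of the structure module. -/
def thetaPow : ∀ n : ℕ, (frobPullPow p X n).obj (Coh.structureModule X) ≅ Coh.structureModule X
  | 0 => Iso.refl _
  | n + 1 => (frobPullPow p X n).mapIso (theta p X) ≪≫ thetaPow n

theorem psiPow_structure (n : ℕ) :
    psiPow p X n (Coh.structureModule X) ≫ (Crv77.toAbF X).map (thetaPow p X n).hom =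
      ((fun g : (Crv77.toAbF X).obj (Coh.structureModule X) ⟶ (Crv77.toAbF X).obj (Coh.structureModule X) =>
        frobO p X ≫ g)^[n] (𝟙 _)) := by
  induction n with
  | zero => exact (Category.id_comp _).trans ((Crv77.toAbF X).map_id _)
  | succ n ih =>
    rw [Function.iterate_succ_apply', ← ih]
    show (psi p X _ ≫ psiPow p X n _) ≫ (Crv77.toAbF X).map
      ((frobPullPow p X n).map (theta p X).hom ≫ (thetaPow p X n).hom) = _
    rw [Functor.map_comp, Category.assoc, ← Category.assoc (psiPow p X n _), ← psiPow_naturality,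
      ← psi_structure, Category.assoc]
    exact (Category.assoc _ _ _).symm

theorem hmap_iterate_frobAb (n i : ℕ) (x : Sheaf.H ((Crv77.toAbF X).obj (Coh.structureModule X)) i) :
    Sheaf.H.map ((fun g : (Crv77.toAbF X).obj (Coh.structureModule X) ⟶ (Crv77.toAbF X).obj (Coh.structureModule X) =>
      frobO p X ≫ g)^[n] (𝟙 _)) i x =
      (Sheaf.H.map (frobO p X) i)^[n] x := by
  induction n generalizing x with
  | zero => exact Sheaf.H.map_id_apply _
  | succ n ih =>
    rw [Function.iterate_succ_apply', Sheaf.H.map_comp_apply, ih, Function.iterate_succ_apply]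

/-- The unit section. -/
def oneO : ((Crv77.toAbF X).obj (Coh.structureModule X)).obj.obj (op ⊤) :=
  (show Γ(X, ⊤) from 1)

theorem frobAb_iterate_one (n : ℕ) :
    ((fun g : (Crv77.toAbF X).obj (Coh.structureModule X) ⟶ (Crv77.toAbF X).obj (Coh.structureModule X) =>
      frobO p X ≫ g)^[n] (𝟙 _)).hom.app (op ⊤) (oneO X) = oneO X := by
  induction n with
  | zero => rfl
  | succ n ih =>
    rw [Function.iterate_succ_apply']
    refine Eq.trans ?_ ih
    exact congrArg _ (one_pow p : (1 : Γ(X, ⊤)) ^ p = 1)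

variable {p X}

/-- `Sheaf.H.map` as an additive function of the morphism. -/
def hmapHom {A B : Sheaf (Opens.grothendieckTopology X) AddCommGrpCat.{u}} {n : ℕ}
    (w : Sheaf.H A n) : (A ⟶ B) →+ Sheaf.H B n :=
  AddMonoidHom.mk' (fun f => Sheaf.H.map f n w) fun f g =>
    (congrArg (fun e => Ext.comp w e (add_zero n)) (Ext.mk₀_add f g)).trans (Ext.comp_add _ _ _ _)

/-- Classes in `H¹` of a free module die after `b` pull-backs. -/
theorem psiPow_free_eq_zero {b : ℕ}
    (hb : ∀ x : Coh.HH X (Coh.structureModule X) 1, (W4c5isocrystsimpconn.frobH X p 1)^[b] x = 0)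
    {r : ℕ} {M : X.Modules} (e : M ≅ FlatMod.freeMod X r) (z : Sheaf.H ((Crv77.toAbF X).obj M) 1) :
    Sheaf.H.map (psiPow p X b M) 1 z = 0 := by
  classical
  haveI := frobPullPow_additive p X b
  have hb' : ∀ x : Sheaf.H ((Crv77.toAbF X).obj (Coh.structureModule X)) 1,
      (Sheaf.H.map (frobO p X) 1)^[b] x = 0 := hb
  let π : Fin r → (M ⟶ Coh.structureModule X) := fun j =>
    e.hom ≫ Sigma.desc fun i => if i = j then 𝟙 _ else 0
  let ι : Fin r → (Coh.structureModule X ⟶ M) := fun j =>
    Sigma.ι (fun _ : Fin r => Coh.structureModule X) j ≫ e.inv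
  have hid : ∑ j, π j ≫ ι j = 𝟙 M := by
    rw [← cancel_epi e.inv, ← cancel_mono e.hom]
    refine Sigma.hom_ext _ _ fun i => ?_
    simp [π, ι, Preadditive.comp_sum, Preadditive.sum_comp, ite_comp, Finset.sum_ite_eq]
  let w := Sheaf.H.map (psiPow p X b M) 1 z
  have hw : ∀ j, Sheaf.H.map ((Crv77.toAbF X).map ((frobPullPow p X b).map (π j))) 1 w = 0 := fun j => by
    have h2 := hmap_iterate_frobAb p X b 1 (Sheaf.H.map ((Crv77.toAbF X).map (π j)) 1 z)
    rw [← psiPow_structure, Sheaf.H.map_comp_apply, hb'] at h2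
    have h3 := congrArg (Sheaf.H.map ((Crv77.toAbF X).map (thetaPow p X b).inv) 1) h2
    rw [← Sheaf.H.map_comp_apply, ← Functor.map_comp, Iso.hom_inv_id,
      CategoryTheory.Functor.map_id, Sheaf.H.map_id_apply, map_zero] at h3
    show Sheaf.H.map _ 1 (Sheaf.H.map _ 1 z) = 0
    rw [← Sheaf.H.map_comp_apply, ← psiPow_naturality, Sheaf.H.map_comp_apply]
    exact h3
  let Φ := ((hmapHom (B := (Crv77.toAbF X).obj ((frobPullPow p X b).obj M)) w).comp
    (Crv77.toAbF X).mapAddHom).comp ((frobPullPow p X b).mapAddHom (X := M) (Y := M))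
  have h4 : Φ (𝟙 M) = w := by
    show Sheaf.H.map ((Crv77.toAbF X).map ((frobPullPow p X b).map (𝟙 M))) 1 w = w
    rw [CategoryTheory.Functor.map_id, CategoryTheory.Functor.map_id]
    exact Sheaf.H.map_id_apply w
  have h5 : ∀ j, Φ (π j ≫ ι j) = 0 := fun j => by
    show Sheaf.H.map ((Crv77.toAbF X).map ((frobPullPow p X b).map (π j ≫ ι j))) 1 w = 0
    rw [Functor.map_comp, Functor.map_comp, Sheaf.H.map_comp_apply, hw, map_zero]
  show w = 0
  rw [← h4, ← hid, map_sum]
  exact Finset.sum_eq_zero fun j _ => h5 j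

theorem shortExact_frobPullPow (n : ℕ) : ∀ {S : ShortComplex X.Modules}, S.ShortExact →
    (S.X₃ ≅ Coh.structureModule X) →
      letI := frobPullPow_additive p X n
      (S.map (frobPullPow p X n)).ShortExact := by
  induction n with
  | zero => intro S hS _; exact hS
  | succ n ih =>
    intro S hS e
    haveI := frobPullPow_additive p X n
    have hlf : FlatMod.IsFinLocFree S.X₃ := fun x => by
      obtain ⟨U, hx, ⟨i⟩⟩ := EGA73.isInvertible_structureModule (X := X) x
      exact ⟨U, 1, hx, ⟨(Scheme.Modules.restrictFunctor U.ι).mapIso e ≪≫ i ≪≫ (coproductUniqueIso fun _ : Fin 1 => Coh.structureModule (U : Scheme.{u})).symm⟩⟩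
    exact ih (KRR40.shortExact_pullback _ hS hlf) ((frobPull p X).mapIso e ≪≫ theta p X)

/-- A split extension of the structure module by a free module is free. -/
theorem iso_free_of_splitting {r : ℕ} {T : ShortComplex X.Modules} (sp : T.Splitting)
    (e₁ : T.X₁ ≅ FlatMod.freeMod X r) (e₃ : T.X₃ ≅ Coh.structureModule X) :
    Nonempty (T.X₂ ≅ FlatMod.freeMod X (r + 1)) := by
  refine ⟨{ hom := sp.r ≫ e₁.hom ≫ Sigma.desc (fun i => Sigma.ι (fun _ : Fin (r + 1) => Coh.structureModule X) i.castSucc) +
              T.g ≫ e₃.hom ≫ Sigma.ι (fun _ : Fin (r + 1) => Coh.structureModule X) (Fin.last r)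
            inv := Sigma.desc (Fin.lastCases (e₃.inv ≫ sp.s) fun i => Sigma.ι (fun _ : Fin r => Coh.structureModule X) i ≫ e₁.inv ≫ T.f)
            hom_inv_id := ?_
            inv_hom_id := ?_ }⟩
  · rw [← sp.id, Preadditive.add_comp]
    congr 1
    · simp only [Category.assoc]
      congr 1
      refine (Iso.eq_inv_comp e₁).1 ?_
      refine Sigma.hom_ext _ _ fun i => ?_
      simp
    · simp only [Category.assoc, Sigma.ι_desc, Fin.lastCases_last, Iso.hom_inv_id_assoc]
  · refine Sigma.hom_ext _ _ fun i => ?_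
    rw [Sigma.ι_desc_assoc, Category.comp_id]
    induction i using Fin.lastCases with
    | last =>
      rw [Fin.lastCases_last, Preadditive.comp_add]
      simp only [Category.assoc]
      rw [sp.s_r_assoc, zero_comp, comp_zero, zero_add, sp.s_g_assoc, Iso.inv_hom_id_assoc]
    | cast i =>
      rw [Fin.lastCases_castSucc, Preadditive.comp_add]
      simp only [Category.assoc]
      rw [sp.f_r_assoc, Iso.inv_hom_id_assoc, Sigma.ι_desc, T.zero_assoc, zero_comp, comp_zero,
        comp_zero, add_zero]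

theorem preservesCoproducts_frobPullPow (n : ℕ) (J : Type) :
    PreservesColimitsOfShape (Discrete J) (frobPullPow p X n) := by
  induction n with
  | zero => exact inferInstanceAs (PreservesColimitsOfShape (Discrete J) (𝟭 X.Modules))
  | succ n ih =>
    haveI := (Scheme.Modules.pullbackPushforwardAdjunction (FrobSch.frob X p)).isLeftAdjoint
    exact inferInstanceAs (PreservesColimitsOfShape (Discrete J) (frobPull p X ⋙ frobPullPow p X n))

/-- The pull-back of a free module. -/
def freeIso (n r : ℕ) {N : X.Modules} (e : N ≅ FlatMod.freeMod X r) :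
    (frobPullPow p X n).obj N ≅ FlatMod.freeMod X r :=
  haveI := preservesCoproducts_frobPullPow (p := p) (X := X) n (Fin r)
  (frobPullPow p X n).mapIso e ≪≫ PreservesCoproduct.iso (frobPullPow p X n) _ ≪≫
    Sigma.mapIso fun _ => thetaPow p X n

omit [Fact p.Prime] [FrobSch.IsCharP X p] in
/-- A morphism from the structure module with a prescribed global section. -/
theorem exists_hom_of_section {M : X.Modules} {φ : M ⟶ Coh.structureModule X}
    (v : ((Crv77.toAbF X).obj M).obj.obj (op ⊤))
    (hv : ((Crv77.toAbF X).map φ).hom.app (op ⊤) v = oneO X) :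
    ∃ σ : Coh.structureModule X ⟶ M, σ ≫ φ = 𝟙 _ := by
  let sv : M.sections := PresheafOfModules.sectionsMk
    (fun U => M.val.map (homOfLE (le_top : U.unop ≤ ⊤)).op v)
    (fun U V f => (PresheafOfModules.map_comp_apply _ _ _ _).symm)
  refine ⟨M.unitHomEquiv.symm sv, ?_⟩
  apply (Coh.structureModule X).unitHomEquiv.injective
  refine (SheafOfModules.unitHomEquiv_comp_apply _ _).trans ?_
  refine (congrArg (SheafOfModules.sectionsMap φ) (Equiv.apply_symm_apply _ _)).trans ?_
  ext U
  show φ.val.app U (M.val.map (homOfLE (le_top : U.unop ≤ ⊤)).op v) = _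
  refine (PresheafOfModules.naturality_apply φ.val _ v).trans ?_
  refine (congrArg _ hv).trans ?_
  exact map_one (X.presheaf.map _).hom

/-- The map of abelian sequences given by iterated pull-back of sections. -/
def psiComplex (b : ℕ) (S : ShortComplex X.Modules) :
    letI := frobPullPow_additive p X b
    Crv77.abComplex S ⟶ Crv77.abComplex (S.map (frobPullPow p X b)) :=
  letI := frobPullPow_additive p X b
  { τ₁ := psiPow p X b S.X₁
    τ₂ := psiPow p X b S.X₂
    τ₃ := psiPow p X b S.X₃
    comm₁₂ := (psiPow_naturality p X b S.f).symm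
    comm₂₃ := (psiPow_naturality p X b S.g).symm }

/-- An extension of the structure module by a free module splits after `b` pull-backs. -/
theorem iso_free_of_extension {b : ℕ}
    (hb : ∀ x : Coh.HH X (Coh.structureModule X) 1, (W4c5isocrystsimpconn.frobH X p 1)^[b] x = 0)
    {r : ℕ} {S : ShortComplex X.Modules} (hS : S.ShortExact) (e₁ : S.X₁ ≅ FlatMod.freeMod X r)
    (e₃ : S.X₃ ≅ Coh.structureModule X) :
    Nonempty ((frobPullPow p X b).obj S.X₂ ≅ FlatMod.freeMod X (r + 1)) := by
  haveI := frobPullPow_additive p X b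
  have hT := shortExact_frobPullPow (p := p) b hS e₃
  generalize hΨ : psiComplex (p := p) b S = Ψ
  have hterm : IsTerminal (⊤ : X.Opens) := isTerminalTop
  let one₃ : ((Crv77.toAbF X).obj S.X₃).obj.obj (op ⊤) :=
    ((Crv77.toAbF X).map e₃.inv).hom.app (op ⊤) (oneO X)
  let u₀ := (Sheaf.H.equiv₀ ((Crv77.toAbF X).obj S.X₃) hterm).symm one₃
  let z := Crv77.gδ.{u} (Crv77.srcObj X) (Crv77.abComplex_shortExact hS) 0 u₀
  have hnat : Crv77.gδ.{u} (Crv77.srcObj X) (Crv77.abComplex_shortExact hT) 0
      (Sheaf.H.map Ψ.τ₃ 0 u₀) = Sheaf.H.map Ψ.τ₁ 1 z :=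
    gδ_natural.{u} (Crv77.srcObj X) (Crv77.abComplex_shortExact hS) (Crv77.abComplex_shortExact hT) Ψ 0 u₀
  have hkill : Sheaf.H.map Ψ.τ₁ 1 z = 0 := by
    subst hΨ
    exact psiPow_free_eq_zero hb e₁ z
  rw [hkill] at hnat
  obtain ⟨v₀, hv₀⟩ := (Crv77.gexact₃.{u} (Crv77.srcObj X) (Crv77.abComplex_shortExact hT) 0 _).1 hnat
  let v := Sheaf.H.equiv₀ (Crv77.abComplex (S.map (frobPullPow p X b))).X₂ hterm v₀
  have hv : (Crv77.abComplex (S.map (frobPullPow p X b))).g.hom.app (op ⊤) v =
      Ψ.τ₃.hom.app (op ⊤) one₃ := by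
    refine (Sheaf.H.equiv₀_naturality hterm _ v₀).trans ?_
    refine (congrArg (Sheaf.H.equiv₀ (Crv77.abComplex (S.map (frobPullPow p X b))).X₃ hterm) hv₀).trans ?_
    refine (Sheaf.H.equiv₀_naturality hterm Ψ.τ₃ u₀).symm.trans ?_
    exact congrArg _ (AddEquiv.apply_symm_apply _ _)
  let Θ : (S.map (frobPullPow p X b)).X₃ ≅ Coh.structureModule X :=
    (frobPullPow p X b).mapIso e₃ ≪≫ thetaPow p X b
  have hΘ : psiPow p X b S.X₃ ≫ (Crv77.toAbF X).map Θ.hom =
      (Crv77.toAbF X).map e₃.hom ≫ psiPow p X b _ ≫ (Crv77.toAbF X).map (thetaPow p X b).hom := by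
    show psiPow p X b _ ≫ (Crv77.toAbF X).map
      ((frobPullPow p X b).map e₃.hom ≫ (thetaPow p X b).hom) = _
    rw [Functor.map_comp, ← Category.assoc, ← psiPow_naturality, Category.assoc]
  have hone : ((Crv77.toAbF X).map Θ.hom).hom.app (op ⊤) (Ψ.τ₃.hom.app (op ⊤) one₃) = oneO X := by
    subst hΨ
    refine (congrArg (fun f => f.hom.app (op ⊤) one₃) hΘ).trans ?_
    rw [psiPow_structure]
    refine Eq.trans ?_ (frobAb_iterate_one p X b)
    refine congrArg (ConcreteCategory.hom (((fun g => frobO p X ≫ g)^[b] (𝟙 ((Crv77.toAbF X).obj (Coh.structureModule X)))).hom.app (op ⊤))) ?_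
    refine (congrArg (fun f => f.hom.app (op ⊤) (oneO X))
      ((Crv77.toAbF X).map_comp e₃.inv e₃.hom).symm).trans ?_
    rw [Iso.inv_hom_id, CategoryTheory.Functor.map_id]
    rfl
  obtain ⟨σ, hσ⟩ := exists_hom_of_section (φ := (S.map (frobPullPow p X b)).g ≫ Θ.hom) v (by
    refine Eq.trans ?_ hone
    rw [← hv, Functor.map_comp]
    rfl)
  haveI := hT.mono_f
  let sp := ShortComplex.Splitting.ofExactOfSection (S.map (frobPullPow p X b)) hT.exact (Θ.hom ≫ σ) (by
    rw [← cancel_mono Θ.hom]
    simp only [Category.assoc, Category.id_comp]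
    rw [hσ, Category.comp_id]) inferInstance
  exact iso_free_of_splitting sp (freeIso b r e₁) Θ

end Groth.Agent.Frob53
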