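import Groth.Agent.S10934
import Groth.Agent.S18151
import Groth.Agent.HypSq53.Surface
import Groth.Agent.Var76.RegTools
import Groth.Agent.EGA73.AmpleImmersion
import Groth.Agent.Curves2.VeryAmple.Embed
import Groth.Agent.VarGal.SmoothReg
import Groth.Agent.IntMult12.MultOne
import Groth.Agent.ModPic.IdealMul
import Groth.Agent.FGA29.IntNumBasic

/-! Kodaira vanishing for a Frobenius split smooth proper scheme. -/

set_option autoImplicit false
set_option linter.style.haveILetI false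
universe u
open CategoryTheory AlgebraicGeometry Opposite TopologicalSpace
open scoped Groth.Agent.FGA29

noncomputable section

namespace Groth.Agent.Frob53.Kodaira

variable {X : Scheme.{u}}

theorem cl_twist_pow (k : Type u) [Field k] (N : ℕ) (q : ℕ) :
    PicF.cl (Twist.twistProjSpace N k (q : ℤ)) = PicF.cl (Twist.twistProjSpace N k 1) ^ q := by
  obtain ⟨e⟩ := EGA73.nonempty_twist_iso_tensorPow (𝒜 := CohB1.polyGrading N k) (Var76.Reg.hgen N k) q
  rw [← FGA29.cl_tensorPow]
  exact HypSq53.cl_eq_of_iso e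

/-- The pull-back of `O(-q)` is the power of the inverse of the pull-back of `O(1)`. -/
theorem cl_pullback_twist_neg (k : Type u) [Field k] {N : ℕ} (i : X ⟶ CohB1.ProjSpace N k)
    {L Linv : X.Modules} (hinv : ClSub.IsInverseOf Linv L) (d : ℕ)
    (h : PicF.cl ((Scheme.Modules.pullback i).obj (Twist.twistProjSpace N k 1)) = PicF.cl L ^ d) (q : ℕ) :
    PicF.cl ((Scheme.Modules.pullback i).obj (Twist.twistProjSpace N k (-(q : ℤ)))) =
      PicF.cl Linv ^ (d * q) := by
  have hI : ∀ z : ℤ, PicF.IsInvertible (Twist.twistProjSpace N k z) := fun z => Var76.Reg.isInvertible_twist z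
  obtain ⟨e⟩ := Var76.Reg.nonempty_twist_add (n := N) (A := k) (show -(q : ℤ) + q = 0 by omega)
  obtain ⟨e₀⟩ := Var76.Reg.nonempty_twist_zero (n := N) (A := k)
  have h1 : PicF.cl ((Scheme.Modules.pullback i).obj (Twist.twistProjSpace N k (-(q : ℤ)))) *
      PicF.cl L ^ (d * q) = 1 := by
    rw [pow_mul, ← h, ← HypSq53.cl_pullback_pow i (hI 1),
      HypSq53.cl_pullback_congr i ((FGA29.cl_tensorPow _ q).trans (cl_twist_pow k N q).symm),
      ← HypSq53.cl_pullback_tensor i (hI _) (hI _),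
      HypSq53.cl_pullback_congr i (HypSq53.cl_eq_of_iso (e ≪≫ e₀)), HypSq53.cl_pullback_one]
  calc PicF.cl ((Scheme.Modules.pullback i).obj (Twist.twistProjSpace N k (-(q : ℤ))))
      = PicF.cl ((Scheme.Modules.pullback i).obj (Twist.twistProjSpace N k (-(q : ℤ)))) *
          (PicF.cl L * PicF.cl Linv) ^ (d * q) := by
        rw [mul_comm (PicF.cl L), ModPic.cl_mul_eq_one_of_isInverseOf hinv, one_pow, mul_one]
    _ = _ := by rw [mul_pow, ← mul_assoc, h1, one_mul]

variable (k : Type u) [Field k] [X.Over (Spec (CommRingCat.of k))] [IsProper (X ↘ Spec (CommRingCat.of k))]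

theorem isCM_stalk [Smooth (X ↘ Spec (CommRingCat.of k))] [IrreducibleSpace X] (n : ℕ)
    (hn : topologicalKrullDim X = n) (x : X) (hx : IsClosed ({x} : Set X)) :
    LocCoh.IsCohenMacaulayLocalRing (X.presheaf.stalk x) ∧ ringKrullDim (X.presheaf.stalk x) = n := by
  have : IsRegularLocalRing (X.presheaf.stalk x) :=
    VarGal.isRegularLocalRing_stalk_of_smooth (X ↘ Spec (CommRingCat.of k)) x
  refine ⟨IntMult12.isCM_of_regular _, PDual19.dim_stalk_of_equidim (X ↘ Spec (CommRingCat.of k)) n hn ?_ hx⟩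
  intro Z hZ
  rw [irreducibleComponents_eq_singleton, Set.mem_singleton_iff] at hZ
  rw [hZ, (Homeomorph.Set.univ X).isHomeomorph.topologicalKrullDim_eq, hn]

/-- High powers of the inverse of an ample module have no cohomology below the dimension. -/
theorem exists_vanish [Smooth (X ↘ Spec (CommRingCat.of k))] [IrreducibleSpace X] (n : ℕ)
    (hn : topologicalKrullDim X = n) {L Linv : X.Modules} (hL : CohB1.IsAmple L)
    (hinv : ClSub.IsInverseOf Linv L) {p : ℕ} (hp : 2 ≤ p) :
    ∃ e₀ : ℕ, ∀ e : ℕ, e₀ ≤ e → ∀ i : ℕ, i < n → Subsingleton (Coh.HH X (CohB1.tensorPow Linv (p ^ e)) i) := by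
  obtain ⟨n₀, -, hva⟩ := EGA73.AmpleImmersion.eventually_isRelVeryAmplePn (X ↘ Spec (CommRingCat.of k)) hL
    (EGA73.isInvertible_structureModule (X := X))
  obtain ⟨N, i, hi, -, ⟨e⟩⟩ := Curves2.VeryAmple.exists_closedImmersion_projSpace k (X ↘ Spec (CommRingCat.of k))
    _ (hva (p ^ n₀) (Nat.lt_pow_self hp).le)
  obtain ⟨q₀, hq₀⟩ := (Groth.Agent.S10934.result k N n i hn).1 (isCM_stalk k n hn) (Coh.structureModule X)
    (fun x => (Mero90.isFinLocFreeOfRank_of_isInvertible
      (EGA73.isInvertible_structureModule (X := X)) x).imp fun _ hU => ⟨1, hU⟩)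
  have hcl : PicF.cl ((Scheme.Modules.pullback i).obj (Twist.twistProjSpace N k 1)) = PicF.cl L ^ (p ^ n₀) := by
    rw [HypSq53.cl_eq_of_iso e, FGA29.cl_tensor, FGA29.cl_one, one_mul, FGA29.cl_tensorPow]
  refine ⟨n₀ + q₀, fun a ha j hj => ?_⟩
  have hq : q₀ ≤ p ^ (a - n₀) := le_trans (by omega) (Nat.lt_pow_self hp).le
  have h2 : PicF.cl (CohB1.tensorMod (Coh.structureModule X)
      ((Scheme.Modules.pullback i).obj (Twist.twistProjSpace N k (-((p ^ (a - n₀) : ℕ) : ℤ))))) =
      PicF.cl (CohB1.tensorPow Linv (p ^ a)) := by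
    rw [FGA29.cl_tensor, FGA29.cl_one, one_mul, cl_pullback_twist_neg k i hinv _ hcl,
      FGA29.cl_tensorPow, ← pow_add]
    congr 2
    omega
  exact ValVan29.subsingleton_hh_of_iso (HypSq53.nonempty_iso_of_cl_eq h2).some j (hq₀ _ hq j hj)

theorem cl_pow_pow (L : X.Modules) (a b : ℕ) :
    PicF.cl (CohB1.tensorPow (CohB1.tensorPow L a) b) = PicF.cl (CohB1.tensorPow L (a * b)) := by
  rw [FGA29.cl_tensorPow, FGA29.cl_tensorPow, FGA29.cl_tensorPow, pow_mul]

end Groth.Agent.Frob53.Kodaira
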