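import Groth.Agent.Frob53.FrobKer
import Groth.Agent.Frob53.FrobLineDim
import Groth.Agent.Frob53.KodairaAux
import Groth.Agent.VB30.FrobBound

/-! `H¹` of the inverse of a line bundle through Frobenius. -/

set_option autoImplicit false
set_option linter.style.haveILetI false
universe u
open CategoryTheory CategoryTheory.Limits AlgebraicGeometry Opposite TopologicalSpace

noncomputable section

namespace Groth.Agent.Frob53

variable (p : ℕ) [Fact p.Prime] {k : Type u} [Field k] [CharP k p] [PerfectRing k p] {X : Scheme.{u}}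
  [X.Over (Spec (CommRingCat.of k))] [IsProper (X ↘ Spec (CommRingCat.of k))]

set_option maxHeartbeats 1000000 in
/-- One step of the descent `H¹(M^p) = 0 ⇒ H¹(M) = 0`. -/
theorem subsingleton_h1_of_pow [IsReduced X] (hn : Pi1.IsNormalScheme X) {M : X.Modules}
    (hM : PicF.IsInvertible M)
    (h0 : Subsingleton (Coh.HH X (CohB1.tensorMod (CohB1.tensorPow M p)
      (Omega.sheaf (X ↘ Spec (CommRingCat.of k)))) 0))
    (h1 : Subsingleton (Coh.HH X (CohB1.tensorPow M p) 1)) : Subsingleton (Coh.HH X M 1) := by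
  have : CharP (CommRingCat.of k) p := ‹CharP k p›
  have : FrobSch.IsCharP X p := FrobSch.IsCharP.of_hom (X ↘ Spec (CommRingCat.of k)) p
  obtain ⟨e⟩ := VB30.nonempty_frob_pullback p hM
  haveI := h0
  haveI := h1
  have hinj := injective_unit_h1 (X ↘ Spec (CommRingCat.of k)) p hn
    (E := M) (fun x => (Mero90.isFinLocFreeOfRank_of_isInvertible hM x).imp fun _ hU => ⟨1, hU⟩)
    (ValVan29.subsingleton_hh_of_iso (EGA73.tensIso e.symm (Iso.refl _)) 0 h0)
  have hc : Coh.IsCoh ((Scheme.Modules.pullback (FrobSch.frob X p)).obj M) :=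
    Crv77.isCoh_of_isInvertible (Amp73.isInvertible_pullback (f := FrobSch.frob X p) hM)
  obtain ⟨hfin, heq⟩ := finite_and_finrank_pf p (k := k) _ hc 1
  let P := (Scheme.Modules.pullback (FrobSch.frob X p)).obj M
  have hP : Subsingleton (Coh.HH X P 1) := ValVan29.subsingleton_hh_of_iso e.symm 1 h1
  have hs : Subsingleton (Coh.HH X (pf p P) 1) := by
    have h2 : Module.finrank k (Coh.HH X (pf p P) 1) = 0 := by
      refine heq.trans ?_
      haveI := hP
      exact Module.finrank_zero_of_subsingleton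
    haveI := hfin
    exact Module.finrank_zero_iff.1 h2
  exact @Function.Injective.subsingleton _ _ _ hinj hs

/-- The iteration. -/
theorem subsingleton_h1_of_iterate [IsReduced X] (hn : Pi1.IsNormalScheme X) {M : X.Modules}
    (hM : PicF.IsInvertible M)
    (h0 : ∀ n : ℕ, 1 ≤ n → Subsingleton (Coh.HH X (CohB1.tensorMod (CohB1.tensorPow M (p ^ n))
      (Omega.sheaf (X ↘ Spec (CommRingCat.of k)))) 0)) :
    ∀ n₀ : ℕ, Subsingleton (Coh.HH X (CohB1.tensorPow M (p ^ n₀)) 1) → Subsingleton (Coh.HH X M 1)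
  | 0, h => ValVan29.subsingleton_hh_of_iso (EGA73.tensUnitLeft M) 1 (by rwa [pow_zero] at h)
  | n + 1, h => by
    refine subsingleton_h1_of_iterate hn hM h0 n ?_
    have e := (HypSq53.nonempty_iso_of_cl_eq (Kodaira.cl_pow_pow M (p ^ n) p)).some
    refine subsingleton_h1_of_pow p (k := k) hn (EGA73.isInvertible_tensorPow hM _) ?_ ?_
    · exact ValVan29.subsingleton_hh_of_iso (EGA73.tensIso e (Iso.refl _)).symm 0
        (by simpa only [pow_succ] using h0 (n + 1) (Nat.le_add_left 1 n))
    · exact ValVan29.subsingleton_hh_of_iso e.symm 1 (by simpa only [pow_succ] using h)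

end Groth.Agent.Frob53
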