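import Groth.Agent.Frob53.PerfTower
import Groth.Agent.S0591
import Groth.Agent.S2075

/-!
# Flat finitely presented schemes over a perfection come from a stage
-/

set_option autoImplicit false
universe u

open CategoryTheory CategoryTheory.Limits AlgebraicGeometry

namespace Groth.Agent.Frob53

variable (p : ℕ) [Fact p.Prime]

/-- A flat finitely presented scheme over the perfection of `Y₀` is the base change of a flat
finitely presented scheme over some stage `Y₀` of the Frobenius tower. -/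
theorem exists_flat_stage {Y₀ Y Z₀ : Scheme.{u}} [FrobSch.IsCharP Y₀ p] [FrobSch.IsCharP Y p]
    [IsIso (FrobSch.frob Y p)] [CompactSpace Y₀] [QuasiSeparatedSpace Y₀]
    (π : Y ⟶ Y₀) (hπ : FrobSch.IsPerfection π p) (f₀ : Z₀ ⟶ Y) [Flat f₀]
    [LocallyOfFinitePresentation f₀] [QuasiCompact f₀] [QuasiSeparated f₀] :
    ∃ (n : ℕ) (W₀ : Scheme.{u}) (h : W₀ ⟶ Y₀) (g : Z₀ ⟶ W₀),
      Flat h ∧ LocallyOfFinitePresentation h ∧ QuasiCompact h ∧ QuasiSeparated h ∧
        IsPullback g f₀ h ((towerCone (p := p) π).π.app (Opposite.op ⟨n⟩)) := by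
  obtain ⟨hc⟩ := nonempty_isLimit_towerCone π hπ
  have haff := tower_affine p Y₀
  have : ∀ i, CompactSpace ((tower p Y₀).obj i) := fun _ => ‹CompactSpace Y₀›
  have : ∀ i, QuasiSeparatedSpace ((tower p Y₀).obj i) := fun _ => ‹QuasiSeparatedSpace Y₀›
  let f₁ : Z₀ ⟶ (towerCone (p := p) π).pt := f₀
  have : LocallyOfFinitePresentation f₁ := ‹LocallyOfFinitePresentation f₀›
  have : QuasiCompact f₁ := ‹QuasiCompact f₀›
  have : QuasiSeparated f₁ := ‹QuasiSeparated f₀›
  have : Flat f₁ := ‹Flat f₀›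
  obtain ⟨i, Xi, fi, g, _, _, _, hsq⟩ := S0591.result (tower p Y₀) _ hc Z₀ f₁
  have : CompactSpace Xi := QuasiCompact.compactSpace_of_compactSpace fi
  have : QuasiSeparatedSpace Xi := quasiSeparatedSpace_of_quasiSeparated fi
  have : IsIso (𝟙 (towerCone (p := p) π).pt) := IsIso.id _
  have : IsIso (𝟙 ((tower p Y₀).obj i)) := IsIso.id _
  have hid : IsPullback ((towerCone (p := p) π).π.app i) (𝟙 (towerCone (p := p) π).pt) (𝟙 _)
      ((towerCone (p := p) π).π.app i) := IsPullback.of_vert_isIso ⟨by simp⟩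
  obtain ⟨j, φ, Xj, Yj, fj, gj, pY, pX, hYj, hXj, hflat⟩ :=
    S2075.result (tower p Y₀) _ hc i fi (𝟙 _) (X := Z₀) (Y := (towerCone (p := p) π).pt)
      f₁ (𝟙 _) _ g hid hsq
  have hgj : IsIso gj := by
    have := hYj.isIso_snd_of_isIso
    exact this
  have hbase : IsPullback pX (fj ≫ gj) fi ((tower p Y₀).map φ) := by
    have := hXj.paste_vert hYj
    simpa using this
  let g' : Z₀ ⟶ Xj := hbase.lift g (f₁ ≫ (towerCone (p := p) π).π.app j) (by
    rw [hsq.w]
    exact congrArg (f₁ ≫ ·) ((towerCone (p := p) π).w φ).symm |>.trans (Category.assoc _ _ _).symm)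
  have hg' : IsPullback g' f₁ (fj ≫ gj) ((towerCone (p := p) π).π.app j) := by
    refine IsPullback.of_right ?_ (hbase.lift_snd _ _ _) hbase
    rw [hbase.lift_fst, (towerCone (p := p) π).w φ]
    exact hsq
  have : Flat gj := inferInstance
  have hflatcomp : Flat (fj ≫ gj) := MorphismProperty.comp_mem @Flat fj gj hflat this
  refine ⟨j.unop.down, Xj, fj ≫ gj, g', hflatcomp, ?_, ?_, ?_, hg'⟩
  · exact MorphismProperty.of_isPullback (P := @LocallyOfFinitePresentation) hbase inferInstance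
  · exact MorphismProperty.of_isPullback (P := @QuasiCompact) hbase inferInstance
  · exact MorphismProperty.of_isPullback (P := @QuasiSeparated) hbase inferInstance

theorem iterate_comp {Y Y₀ : Scheme.{u}} [FrobSch.IsCharP Y p] [FrobSch.IsCharP Y₀ p]
    [IsIso (FrobSch.frob Y p)] (π : Y ⟶ Y₀) (n : ℕ) :
    (towerCone (p := p) π).π.app (Opposite.op ⟨n⟩) ≫ FrobSch.frobIter Y₀ p n = π := by
  have := (towerCone (p := p) π).w
    (homOfLE (show (⟨0⟩ : ULift.{u} ℕ) ≤ ⟨n⟩ from Nat.zero_le n)).op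
  simp only [towerCone_zero] at this
  simpa [tower] using this

theorem isIso_frobIter (X : Scheme.{u}) [FrobSch.IsCharP X p] (h : FrobSch.IsPerfect X p) (n : ℕ) :
    IsIso (FrobSch.frobIter X p n) := by
  have : IsIso (FrobSch.frob X p) := h
  induction n with
  | zero => exact inferInstanceAs (IsIso (𝟙 X))
  | succ n ih => rw [FrobSch.frobIter_succ]; infer_instance

/-- The perfection of the pulled back scheme is a perfection of the stage. -/
theorem isPerfection_stage {Y₀ Y Z₀ Z W₀ : Scheme.{u}} [FrobSch.IsCharP Y₀ p] [FrobSch.IsCharP Y p]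
    [FrobSch.IsCharP Z p] [IsIso (FrobSch.frob Y p)] (π : Y ⟶ Y₀) (hπ : FrobSch.IsPerfection π p)
    (πZ : Z ⟶ Z₀) (hZ : FrobSch.IsPerfection πZ p) (a : (ULift.{u} ℕ)ᵒᵖ) {f₀ : Z₀ ⟶ Y} {h : W₀ ⟶ Y₀}
    {g : Z₀ ⟶ W₀} (hsq : IsPullback g f₀ h ((towerCone (p := p) π).π.app a)) :
    FrobSch.IsPerfection (πZ ≫ g) p := by
  refine ⟨hZ.1, fun T _ hT => ?_⟩
  have hbij := iterate_bijective (p := p) π (fun T _ hT => hπ.2 T hT) a T hT
  refine ⟨fun s t hst => ?_, fun t => ?_⟩
  · refine (hZ.2 T hT).1 (hsq.hom_ext (by simpa using hst) (hbij.1 ?_))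
    have hst' : (s ≫ πZ ≫ g) ≫ h = (t ≫ πZ ≫ g) ≫ h := congrArg (· ≫ h) hst
    simp only [Category.assoc, hsq.w] at hst' ⊢
    exact hst'
  · obtain ⟨y, hy⟩ := hbij.2 (t ≫ h)
    obtain ⟨s, hs⟩ := (hZ.2 T hT).2 (hsq.lift t y hy.symm)
    refine ⟨s, ?_⟩
    change s ≫ πZ = _ at hs
    change s ≫ πZ ≫ g = t
    rw [reassoc_of% hs, hsq.lift_fst]

end Groth.Agent.Frob53
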