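import Mathlib
import Groth.Prelude.Def_W4c3convisocdirimgFrobIter
import Groth.Agent.Perf96.Basic
import Groth.Agent.S2151

/-!
# The perfection as the limit of the Frobenius tower
-/

set_option autoImplicit false
universe u

open CategoryTheory CategoryTheory.Limits AlgebraicGeometry

namespace Groth.Agent.Frob53

variable (p : ℕ) [Fact p.Prime] (X : Scheme.{u}) [FrobSch.IsCharP X p]

theorem frobIter_add (m n : ℕ) :
    FrobSch.frobIter X p (m + n) = FrobSch.frobIter X p m ≫ FrobSch.frobIter X p n := by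
  induction m with
  | zero => simp
  | succ m ih => rw [Nat.succ_add, FrobSch.frobIter_succ, ih, FrobSch.frobIter_succ, Category.assoc]

theorem frobIter_isAffineHom (n : ℕ) : IsAffineHom (FrobSch.frobIter X p n) := by
  have : IsAffineHom (FrobSch.frob X p) := ⟨fun _ hU => hU⟩
  induction n with
  | zero => exact inferInstanceAs (IsAffineHom (𝟙 X))
  | succ n ih => rw [FrobSch.frobIter_succ]; infer_instance

theorem frobIter_naturality {Y : Scheme.{u}} [FrobSch.IsCharP Y p] (f : Y ⟶ X) (n : ℕ) :
    FrobSch.frobIter Y p n ≫ f = f ≫ FrobSch.frobIter X p n := by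
  induction n with
  | zero => simp
  | succ n ih => rw [FrobSch.frobIter_succ, FrobSch.frobIter_succ, Category.assoc, ih,
      FrobSch.frob_comp_assoc]

/-- The Frobenius tower `⋯ ⟶ X ⟶ X ⟶ X`. -/
noncomputable def tower : (ULift.{u} ℕ)ᵒᵖ ⥤ Scheme.{u} where
  obj _ := X
  map {a b} _ := FrobSch.frobIter X p (a.unop.down - b.unop.down)
  map_id a := by simp
  map_comp {a b c} φ ψ := by
    have h₁ : b.unop.down ≤ a.unop.down :=
      (show b.unop ≤ a.unop from leOfHom φ.unop)
    have h₂ : c.unop.down ≤ b.unop.down :=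
      (show c.unop ≤ b.unop from leOfHom ψ.unop)
    rw [← frobIter_add]
    congr 1
    omega

theorem tower_affine : ∀ (a b : (ULift.{u} ℕ)ᵒᵖ) (φ : a ⟶ b), IsAffineHom ((tower p X).map φ) :=
  fun _ _ _ => frobIter_isAffineHom p X _

variable {p X}

/-- A map out of a perfect scheme gives a cone over the tower. -/
noncomputable def towerCone {Y : Scheme.{u}} [FrobSch.IsCharP Y p] [IsIso (FrobSch.frob Y p)]
    (π : Y ⟶ X) : Cone (tower p X) where
  pt := Y
  π :=
    { app := fun a => (fun g => inv (FrobSch.frob Y p) ≫ g)^[a.unop.down] π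
      naturality := fun a b φ => by
        have key : ∀ n k, (fun g => inv (FrobSch.frob Y p) ≫ g)^[n + k] π ≫
            FrobSch.frobIter X p k = (fun g => inv (FrobSch.frob Y p) ≫ g)^[n] π := by
          intro n k
          induction k with
          | zero => simp
          | succ k ih =>
            have hc : ∀ m, (fun g => inv (FrobSch.frob Y p) ≫ g)^[m] π ≫ FrobSch.frob X p =
                FrobSch.frob Y p ≫ (fun g => inv (FrobSch.frob Y p) ≫ g)^[m] π :=
              fun m => (FrobSch.frob_comp p _).symm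
            rw [← Nat.add_assoc, Function.iterate_succ_apply', FrobSch.frobIter_succ, Category.assoc,
              reassoc_of% hc, IsIso.inv_hom_id_assoc, ih]
        have h : b.unop.down ≤ a.unop.down :=
      (show b.unop ≤ a.unop from leOfHom φ.unop)
        refine (Category.id_comp _).trans ?_
        have := key b.unop.down (a.unop.down - b.unop.down)
        rw [Nat.add_sub_cancel' h] at this
        exact this.symm }

theorem towerCone_zero {Y : Scheme.{u}} [FrobSch.IsCharP Y p] [IsIso (FrobSch.frob Y p)]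
    (π : Y ⟶ X) : (towerCone (p := p) π).π.app (Opposite.op ⟨0⟩) = π := rfl

theorem iterate_bijective {Y : Scheme.{u}} [FrobSch.IsCharP Y p] [IsIso (FrobSch.frob Y p)]
    (π : Y ⟶ X) (hπ : ∀ (T : Scheme.{u}) [FrobSch.IsCharP T p], FrobSch.IsPerfect T p →
      Function.Bijective fun g : T ⟶ Y => g ≫ π) (a : (ULift.{u} ℕ)ᵒᵖ)
    (T : Scheme.{u}) [FrobSch.IsCharP T p] (hT : FrobSch.IsPerfect T p) :
    Function.Bijective fun g : T ⟶ Y => g ≫ (towerCone (p := p) π).π.app a := by
  change Function.Bijective fun g : T ⟶ Y => g ≫ (fun g => inv (FrobSch.frob Y p) ≫ g)^[a.unop.down] π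
  induction a.unop.down with
  | zero => exact hπ T hT
  | succ n ih =>
    simp only [Function.iterate_succ_apply', ← Category.assoc]
    refine ih.comp ⟨fun g₁ g₂ h => (cancel_mono _).1 h, fun g => ⟨g ≫ FrobSch.frob Y p, ?_⟩⟩
    simp

/-- A perfection is the limit of the Frobenius tower. -/
theorem nonempty_isLimit_towerCone {Y : Scheme.{u}} [FrobSch.IsCharP Y p]
    [IsIso (FrobSch.frob Y p)] (π : Y ⟶ X) (hπ : FrobSch.IsPerfection π p) :
    Nonempty (IsLimit (towerCone (p := p) π)) := by
  obtain ⟨c, hc, -⟩ := @S2151.result _ _ _ (tower p X) (tower_affine p X)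
  let q : ℕ → (c.pt ⟶ X) := fun n => c.π.app (Opposite.op ⟨n⟩)
  have : FrobSch.IsCharP c.pt p := FrobSch.IsCharP.of_hom (q 0) p
  have hext : ∀ {T : Scheme.{u}} (a b : T ⟶ c.pt), (∀ n, a ≫ q n = b ≫ q n) → a = b :=
    fun a b h => hc.hom_ext fun x => h x.unop.down
  have hstep : ∀ n : ℕ, q (n + 1) ≫ FrobSch.frob X p = q n := fun n => by
    have := c.w (homOfLE (show (⟨n⟩ : ULift.{u} ℕ) ≤ ⟨n + 1⟩ from Nat.le_succ n)).op
    simpa [q, tower, FrobSch.frobIter_succ] using this
  have hfrob : ∀ n, FrobSch.frob c.pt p ≫ q n = q n ≫ FrobSch.frob X p := fun n =>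
    FrobSch.frob_comp p _
  -- the shift is inverse to Frobenius
  let shift : c.pt ⟶ c.pt := hc.lift ⟨c.pt,
    { app := fun a => q (a.unop.down + 1)
      naturality := fun a b φ => by
        have h : b.unop.down ≤ a.unop.down :=
          (show b.unop ≤ a.unop from leOfHom φ.unop)
        have hle : (⟨b.unop.down + 1⟩ : ULift.{u} ℕ) ≤ ⟨a.unop.down + 1⟩ := Nat.add_le_add_right h 1
        have := c.w (homOfLE hle).op
        refine (Category.id_comp _).trans ?_
        simpa [tower, q] using this.symm }⟩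
  have hshift : ∀ n, shift ≫ q n = q (n + 1) := fun n => hc.fac _ (Opposite.op ⟨n⟩)
  have hperf : FrobSch.IsPerfect c.pt p := by
    refine ⟨⟨shift, hext _ _ fun n => ?_, hext _ _ fun n => ?_⟩⟩
    · rw [Category.assoc, hshift, hfrob, hstep, Category.id_comp]
    · rw [Category.assoc, hfrob, reassoc_of% hshift, hstep, Category.id_comp]
  -- morphisms from perfect schemes are determined at stage zero
  have hdet : ∀ (T : Scheme.{u}) [FrobSch.IsCharP T p], FrobSch.IsPerfect T p →
      ∀ a b : T ⟶ c.pt, a ≫ q 0 = b ≫ q 0 → a = b := by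
    intro T _ hT a b h
    have : IsIso (FrobSch.frob T p) := hT
    refine hext _ _ fun n => ?_
    induction n with
    | zero => exact h
    | succ n ih =>
      rw [← cancel_epi (FrobSch.frob T p), FrobSch.frob_comp p (a ≫ q (n + 1)),
        FrobSch.frob_comp p (b ≫ q (n + 1)), Category.assoc, Category.assoc, hstep]
      exact ih
  let α : Y ⟶ c.pt := hc.lift (towerCone (p := p) π)
  obtain ⟨β, hβ⟩ := (hπ.2 c.pt hperf).2 (q 0)
  change β ≫ π = _ at hβ
  have hα0 : α ≫ q 0 = π := hc.fac (towerCone (p := p) π) (Opposite.op ⟨0⟩)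
  have h₁ : β ≫ α = 𝟙 c.pt := hdet c.pt hperf _ _ (by
    rw [Category.assoc, hα0, hβ, Category.id_comp])
  have h₂ : α ≫ β = 𝟙 Y := (hπ.2 Y hπ.1).1 (by
    change (α ≫ β) ≫ π = 𝟙 Y ≫ π
    rw [Category.assoc, hβ, hα0, Category.id_comp])
  refine ⟨IsLimit.ofIsoLimit hc (Cone.ext ⟨β, α, h₁, h₂⟩ fun a => ?_)⟩
  change c.π.app a = β ≫ (towerCone (p := p) π).π.app a
  rw [← hc.fac (towerCone (p := p) π) a]
  exact ((reassoc_of% h₁) (c.π.app a)).symm

end Groth.Agent.Frob53
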