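import Mathlib
import Groth.Agent.Crv77.HH

/-!
# The p-th power endomorphism of the structure sheaf
-/

set_option autoImplicit false
universe u

open CategoryTheory CategoryTheory.Limits AlgebraicGeometry Opposite CategoryTheory.Abelian
  TopologicalSpace

namespace Groth.Agent.Frob53

variable {X : Scheme.{u}}

local notation "OAb" => Coh.toAb (Coh.structureModule X)

theorem mono_pow [IsReduced X] (p : ℕ) [Fact p.Prime] (hp : (p : Γ(X, ⊤)) = 0) (φ : OAb ⟶ OAb)
    (hφ : ∀ (U : X.Opens) (t : Γ(X, U)), φ.hom.app (op U) t = t ^ p) : Mono φ := by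
  have hinj : ∀ U : (Opens X)ᵒᵖ, Function.Injective (φ.hom.app U) := by
    intro U a b hab
    have hp' : (p : Γ(X, U.unop)) = 0 := by
      have h := congrArg (X.presheaf.map (homOfLE (le_top : U.unop ≤ ⊤)).op).hom hp
      simpa using h
    have hab' : @id Γ(X, U.unop) a ^ p = @id Γ(X, U.unop) b ^ p :=
      ((hφ U.unop a).symm.trans hab).trans (hφ U.unop b)
    rcases subsingleton_or_nontrivial Γ(X, U.unop) with h | h
    · exact h.elim a b
    · have : CharP Γ(X, U.unop) p := (CharP.charP_iff_prime_eq_zero Fact.out).2 hp'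
      have : (@id Γ(X, U.unop) a - @id Γ(X, U.unop) b) ^ p = 0 := by
        rw [sub_pow_char, hab', sub_self]
      have h0 : @id Γ(X, U.unop) a - @id Γ(X, U.unop) b = 0 :=
        IsReduced.eq_zero (R := Γ(X, U.unop)) _ ⟨p, this⟩
      exact (sub_eq_zero (G := Γ(X, U.unop))).1 h0
  have (U : (Opens X)ᵒᵖ) : Mono (φ.hom.app U) := (AddCommGrpCat.mono_iff_injective _).2 (hinj U)
  have : Mono φ.hom := NatTrans.mono_of_mono_app _
  exact (sheafToPresheaf _ _).mono_of_mono_map this

/-- A monomorphism with acyclic cokernel induces bijections in cohomology. -/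
theorem bijective_map_of_acyclic_cokernel
    {F G : Sheaf (Opens.grothendieckTopology X) AddCommGrpCat.{u}} (φ : F ⟶ G) [Mono φ]
    (hB : ∀ i : ℕ, Subsingleton (Sheaf.H (cokernel φ) i)) (i : ℕ) :
    Function.Bijective (Sheaf.H.map φ i) := by
  let S : ShortComplex (Sheaf (Opens.grothendieckTopology X) AddCommGrpCat.{u}) :=
    ShortComplex.mk φ (cokernel.π φ) (cokernel.condition φ)
  have hS : S.ShortExact :=
    { exact := S.exact_of_g_is_cokernel (cokernelIsCokernel φ) }
  refine ⟨?_, fun y => ?_⟩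
  · cases i with
    | zero => exact Crv77.ginj.{u} (Crv77.srcObj X) hS
    | succ n =>
      refine (injective_iff_map_eq_zero (Sheaf.H.map φ (n + 1))).2 fun x hx => ?_
      obtain ⟨w, rfl⟩ := (Crv77.gexact₁.{u} (Crv77.srcObj X) hS n x).1 hx
      have : w = 0 := (hB n).elim w 0
      rw [this, map_zero]
  · obtain ⟨x, hx⟩ := (Crv77.gexact₂.{u} (Crv77.srcObj X) hS i y).1 ((hB i).elim _ _)
    exact ⟨x, hx⟩

end Groth.Agent.Frob53
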