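import Mathlib

/-!
# A semilinear map without nonzero fixed vectors is nilpotent
-/

set_option autoImplicit false
universe u v

open Polynomial

namespace Groth.Agent.Frob53

variable (p : ℕ) [hp : Fact p.Prime] {k : Type u} [Field k] [CharP k p] [IsAlgClosed k]
  {V : Type v} [AddCommGroup V] [Module k V]

/-- The recursion solving the fixed vector equation in a cyclic space. -/
noncomputable def fixPoly (a : ℕ → k) : ℕ → k[X]
  | 0 => C (a 0) * X ^ p
  | n + 1 => fixPoly a n ^ p + C (a (n + 1)) * X ^ p

theorem natDegree_fixPoly {a : ℕ → k} (ha : a 0 ≠ 0) : ∀ n, (fixPoly p a n).natDegree = p ^ (n + 1)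
  | 0 => by simp [fixPoly, natDegree_C_mul_X_pow p _ ha]
  | n + 1 => by
    have h1 : (fixPoly p a n ^ p).natDegree = p ^ (n + 2) := by
      rw [natDegree_pow, natDegree_fixPoly ha n]
      ring
    rw [fixPoly, natDegree_add_eq_left_of_natDegree_lt, h1]
    rw [h1]
    refine lt_of_le_of_lt (natDegree_C_mul_X_pow_le _ _) ?_
    exact (pow_one p).symm.trans_lt (Nat.pow_lt_pow_right hp.out.one_lt (by omega))

omit [IsAlgClosed k] in
theorem derivative_fixPoly (a : ℕ → k) : ∀ n, derivative (fixPoly p a n) = 0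
  | 0 => by simp [fixPoly, derivative_X_pow]
  | n + 1 => by simp [fixPoly, derivative_pow, derivative_X_pow]

omit [IsAlgClosed k] in
theorem eval_fixPoly_zero (a : ℕ → k) : ∀ n, (fixPoly p a n).eval 0 = 0
  | 0 => by simp [fixPoly, hp.out.ne_zero]
  | n + 1 => by simp [fixPoly, eval_fixPoly_zero a n, hp.out.ne_zero]

/-- A nonzero injective semilinear endomorphism has a nonzero fixed vector. -/
theorem exists_fixed_of_injective [FiniteDimensional k V] [Nontrivial V] (f : V →+ V)
    (hf : ∀ (a : k) (x : V), f (a • x) = a ^ p • f x) (hinj : Function.Injective f) :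
    ∃ x, x ≠ 0 ∧ f x = x := by
  obtain ⟨v, hv⟩ := exists_ne (0 : V)
  classical
  have hdep : ∃ m, ¬ LinearIndependent k (fun i : Fin (m + 1) => f^[i] v) :=
    ⟨Module.finrank k V, fun h => by
      have := h.fintype_card_le_finrank
      simp at this⟩
  obtain ⟨m, hm, hmin⟩ : ∃ m, ¬ LinearIndependent k (fun i : Fin (m + 1) => f^[i] v) ∧
      ∀ j < m, LinearIndependent k (fun i : Fin (j + 1) => f^[i] v) :=
    ⟨Nat.find hdep, Nat.find_spec hdep, fun j hj => not_not.1 (Nat.find_min hdep hj)⟩
  obtain ⟨n, rfl⟩ : ∃ n, m = n + 1 := by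
    refine Nat.exists_eq_succ_of_ne_zero fun h => ?_
    subst h
    exact hm ((linearIndependent_unique_iff (v := fun i : Fin 1 => f^[i] v)).2 (by simpa using hv))
  have hli := hmin n (Nat.lt_succ_self n)
  have hmem : f^[n + 1] v ∈ Submodule.span k (Set.range fun i : Fin (n + 1) => f^[i] v) := by
    by_contra h
    refine hm ?_
    rw [linearIndependent_fin_succ']
    exact ⟨hli, h⟩
  obtain ⟨α, hα⟩ := (Submodule.mem_span_range_iff_exists_fun k).1 hmem
  have hindep : ∀ c : ℕ → k, (∑ i ∈ Finset.range (n + 1), c i • f^[i] v) = 0 →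
      ∀ i ≤ n, c i = 0 := fun c hc i hi => by
    rw [← Fin.sum_univ_eq_sum_range (fun i => c i • f^[i] v)] at hc
    exact Fintype.linearIndependent_iff.1 hli _ hc ⟨i, Nat.lt_succ_of_le hi⟩
  let a : ℕ → k := fun i => if h : i < n + 1 then α ⟨i, h⟩ else 0
  have ha : f^[n + 1] v = ∑ i ∈ Finset.range (n + 1), a i • f^[i] v := by
    rw [← Fin.sum_univ_eq_sum_range (fun i => a i • f^[i] v), ← hα]
    exact Finset.sum_congr rfl fun i _ => by simp only [a, dif_pos i.2, Fin.eta]
  have ha0 : a 0 ≠ 0 := fun h0 => by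
    rw [Finset.sum_range_succ', h0, zero_smul, add_zero] at ha
    obtain ⟨b, hb⟩ : ∃ b : ℕ → k, ∀ i, b i ^ p = a (i + 1) :=
      ⟨_, fun i => (IsAlgClosed.exists_pow_nat_eq (a (i + 1)) hp.out.pos).choose_spec⟩
    have h1 : f^[n] v = ∑ i ∈ Finset.range n, b i • f^[i] v := hinj (by
      rw [← Function.iterate_succ_apply' (f := ⇑f), ha, map_sum]
      exact Finset.sum_congr rfl fun i _ => by rw [hf, hb, ← Function.iterate_succ_apply' (f := ⇑f)])
    have h2 := hindep (fun i => if i = n then -1 else b i) (by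
      rw [Finset.sum_range_succ, if_pos rfl, neg_one_smul, h1,
        Finset.sum_congr rfl fun i hi => by rw [if_neg (Finset.mem_range.1 hi).ne], add_neg_cancel]) n le_rfl
    simp at h2
  let P := fixPoly p a n - X
  have hdegP : P.natDegree = p ^ (n + 1) := by
    rw [natDegree_sub_eq_left_of_natDegree_lt] <;> rw [natDegree_fixPoly p ha0]
    rw [natDegree_X]
    exact Nat.one_lt_pow (by omega) hp.out.one_lt
  have hsep : P.Separable := by
    rw [separable_def, show derivative P = C (-1) by simp [P, derivative_fixPoly]]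
    exact ⟨0, -1, by simp⟩
  obtain ⟨t, ht0, ht⟩ : ∃ t : k, t ≠ 0 ∧ (fixPoly p a n).eval t = t := by
    by_contra hne
    push_neg at hne
    have hroots : P.roots.toFinset ⊆ {0} := fun t ht => by
      rw [Multiset.mem_toFinset] at ht
      rw [Finset.mem_singleton]
      by_contra h
      refine hne t h ?_
      have := isRoot_of_mem_roots ht
      simpa [P, sub_eq_zero] using this
    have h1 := Multiset.toFinset_card_of_nodup (nodup_roots hsep)
    rw [(IsAlgClosed.splits P).natDegree_eq_card_roots.symm, hdegP] at h1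
    have h2 := Finset.card_le_card hroots
    rw [h1, Finset.card_singleton] at h2
    exact absurd h2 (not_le.2 (Nat.one_lt_pow (by omega) hp.out.one_lt))
  let c : ℕ → k := fun i => (fixPoly p a i).eval t
  refine ⟨∑ i ∈ Finset.range (n + 1), c i • f^[i] v, fun h => ht0 (ht ▸ hindep c h n le_rfl), ?_⟩
  rw [map_sum]
  simp_rw [hf, ← Function.iterate_succ_apply' (f := ⇑f)]
  rw [Finset.sum_range_succ, ha, show c n = t from ht, Finset.smul_sum]
  simp_rw [smul_smul]
  rw [Finset.sum_range_succ' (fun i => (t ^ p * a i) • f^[i] v),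
    Finset.sum_range_succ' (fun i => c i • f^[i] v), ← add_assoc, ← Finset.sum_add_distrib]
  congr 1
  · exact Finset.sum_congr rfl fun i _ => by
      rw [← add_smul]
      congr 1
      simp only [c, fixPoly, eval_add, eval_pow, eval_mul, eval_C, eval_X]
      ring
  · congr 1
    simp only [c, fixPoly, eval_pow, eval_mul, eval_C, eval_X]
    ring

/-- A semilinear endomorphism without nonzero fixed vector is nilpotent. -/
theorem nilpotent_of_forall_fixed [FiniteDimensional k V] (f : V →+ V)
    (hf : ∀ (a : k) (x : V), f (a • x) = a ^ p • f x) (h : ∀ x, f x = x → x = 0) :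
    ∃ b : ℕ, 0 < b ∧ ∀ x, f^[b] x = 0 := by
  have hz : ∀ n, f^[n] (0 : V) = 0 := fun n => Function.iterate_fixed (map_zero f) n
  have hadd : ∀ n (x y : V), f^[n] (x + y) = f^[n] x + f^[n] y := fun n x y => by
    induction n generalizing x y with
    | zero => rfl
    | succ n ih => rw [Function.iterate_succ_apply, map_add, ih]; rfl
  have hsmul : ∀ n (a : k) (x : V), f^[n] (a • x) = a ^ p ^ n • f^[n] x := fun n a x => by
    induction n with
    | zero => simp
    | succ n ih => simp only [Function.iterate_succ_apply', ih, hf, pow_succ, pow_mul]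
  let K : ℕ →o Submodule k V :=
    ⟨fun n =>
      { carrier := {x | f^[n] x = 0}
        add_mem' := fun {x y} hx hy => by simp_all
        zero_mem' := hz n
        smul_mem' := fun a x hx => by
          simp only [Set.mem_setOf_eq] at hx ⊢
          rw [hsmul, hx, smul_zero] },
      fun m n hmn x hx => by
        obtain ⟨d, rfl⟩ := Nat.exists_eq_add_of_le hmn
        show f^[m + d] x = 0
        rw [Nat.add_comm, Function.iterate_add_apply, show f^[m] x = 0 from hx, hz]⟩
  obtain ⟨N, hN⟩ := monotone_stabilizes_iff_noetherian.2 inferInstance K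
  let b := N + 1
  let W : Submodule k V :=
    { carrier := Set.range (f^[b])
      add_mem' := by
        rintro _ _ ⟨x, rfl⟩ ⟨y, rfl⟩
        exact ⟨x + y, hadd b x y⟩
      zero_mem' := ⟨0, hz b⟩
      smul_mem' := by
        rintro a _ ⟨x, rfl⟩
        obtain ⟨c, hc⟩ := IsAlgClosed.exists_pow_nat_eq a (pow_pos hp.out.pos b : 0 < p ^ b)
        exact ⟨c • x, by rw [hsmul, hc]⟩ }
  have hW : ∀ x ∈ W, f x ∈ W := by
    rintro _ ⟨x, rfl⟩
    exact ⟨f x, (Function.iterate_succ_apply _ b x).symm.trans (Function.iterate_succ_apply' _ b x)⟩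
  let g : W →+ W :=
    { toFun := fun x => ⟨f (x : V), hW x x.2⟩
      map_zero' := Subtype.ext (map_zero f)
      map_add' := fun x y => Subtype.ext (map_add f (x : V) y) }
  have hg : Function.Injective g := by
    refine (injective_iff_map_eq_zero g).2 ?_
    rintro ⟨_, x, rfl⟩ hx
    have hx' : f^[b + 1] x = 0 := by
      rw [Function.iterate_succ_apply']
      exact congrArg Subtype.val hx
    have he : K b = K (b + 1) := (hN b (Nat.le_succ N)).symm.trans (hN (b + 1) (by omega))
    have : x ∈ K b := he ▸ (show x ∈ K (b + 1) from hx')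
    exact Subtype.ext this
  refine ⟨b, Nat.succ_pos N, fun x => ?_⟩
  by_contra hne
  haveI : Nontrivial W := ⟨⟨f^[b] x, x, rfl⟩, 0, fun e => hne (congrArg Subtype.val e)⟩
  obtain ⟨w, hw0, hw⟩ := exists_fixed_of_injective p g (fun a x => Subtype.ext (hf a (x : V))) hg
  exact hw0 (Subtype.ext (h _ (congrArg Subtype.val hw)))

end Groth.Agent.Frob53
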