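import Mathlib
import Groth.Prelude.Def_W4c3convisocdirimgFrobIter
import Groth.Prelude.Def_Pi1
import Groth.Prelude.Def_Flat
import Groth.Agent.Frob53.PerfTower
import Groth.Agent.Var76.FrobHomeo
import Groth.Agent.Perf96.UHom
import Groth.Agent.EGA73.IntegralNormal

/-!
# Factoring iterated Frobenius through a universal homeomorphism onto a normal scheme
-/

set_option autoImplicit false
universe u

open CategoryTheory CategoryTheory.Limits AlgebraicGeometry

namespace Groth.Agent.Frob53

variable {p : ℕ} [hp : Fact p.Prime]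

theorem iterate_comp_frob (X : Scheme.{u}) [FrobSch.IsCharP X p] (n : ℕ) :
    (fun g : X ⟶ X => g ≫ FrobSch.frob X p)^[n] (𝟙 X) = FrobSch.frobIter X p n := by
  induction n with
  | zero => rfl
  | succ n ih =>
    rw [Function.iterate_succ_apply', ih, frobIter_add p X n 1, FrobSch.frobIter_succ,
      FrobSch.frobIter_zero, Category.comp_id]

theorem frobIter_isUnivHomeo (X : Scheme.{u}) [FrobSch.IsCharP X p] (n : ℕ) :
    FlatMor.IsUnivHomeo (FrobSch.frobIter X p n) := by
  induction n with
  | zero =>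
    rw [FrobSch.frobIter_zero, UH57.isUnivHomeo_iff']
    exact ⟨inferInstance, inferInstance, inferInstance⟩
  | succ n ih =>
    rw [FrobSch.frobIter_succ]
    exact Perf96.isUnivHomeo_comp (Var76.FrobHomeo.frob_isUnivHomeo p X) ih

theorem le_frobIter_preimage (X : Scheme.{u}) [FrobSch.IsCharP X p] (n : ℕ) (U : X.Opens) :
    U ≤ FrobSch.frobIter X p n ⁻¹ᵁ U := by
  induction n with
  | zero => exact le_refl U
  | succ n ih =>
    rw [FrobSch.frobIter_succ, Scheme.Hom.comp_preimage]
    exact ih

theorem frobIter_appLE (X : Scheme.{u}) [FrobSch.IsCharP X p] (n : ℕ) (U : X.Opens)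
    (s : Γ(X, U)) :
    (FrobSch.frobIter X p n).appLE U U (le_frobIter_preimage X n U) s = s ^ p ^ n := by
  induction n with
  | zero =>
    rw [pow_zero, pow_one]
    show X.presheaf.map _ ((𝟙 X : X ⟶ X).app U s) = s
    rw [Scheme.Hom.id_app]
    exact congrArg (fun g : Γ(X, U) ⟶ Γ(X, U) => g s) (X.presheaf.map_id _)
  | succ n ih =>
    have h : (FrobSch.frob X p).appLE U U (le_refl U) ((FrobSch.frobIter X p n).appLE U U
        (le_frobIter_preimage X n U) s) = s ^ p ^ (n + 1) := by
      rw [ih, pow_succ, pow_mul]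
      show X.presheaf.map _ ((FrobSch.frob X p).app U (s ^ p ^ n)) = _
      rw [FrobSch.frob_app]
      exact congrArg (fun g : Γ(X, U) ⟶ Γ(X, U) => g ((s ^ p ^ n) ^ p)) (X.presheaf.map_id _)
    rw [← h]
    simp only [FrobSch.frobIter_succ]
    rw [← ConcreteCategory.comp_apply, Scheme.Hom.appLE_comp_appLE]

/-- The map on function fields of a morphism sending generic point to generic point. -/
noncomputable abbrev ffMap {X Y : Scheme.{u}} [IrreducibleSpace X] [IrreducibleSpace Y]
    (f : X ⟶ Y) (e : f (genericPoint X) = genericPoint Y) : Y.functionField ⟶ X.functionField :=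
  Y.presheaf.stalkSpecializes (specializes_of_eq e) ≫ f.stalkMap (genericPoint X)

theorem germ_ffMap {X Y : Scheme.{u}} [IrreducibleSpace X] [IrreducibleSpace Y] (f : X ⟶ Y)
    (e : f (genericPoint X) = genericPoint Y) (V : Y.Opens) [Nonempty V] [Nonempty (f ⁻¹ᵁ V : X.Opens)]
    (a : Γ(Y, V)) :
    ffMap f e (Y.germToFunctionField V a) = X.germToFunctionField (f ⁻¹ᵁ V) (f.app V a) := by
  simp only [ffMap, Scheme.germToFunctionField, ConcreteCategory.comp_apply,
    TopCat.Presheaf.germ_stalkSpecializes_apply, Scheme.Hom.germ_stalkMap_apply]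

/-- The function field map of a universal homeomorphism of finite type is finite and
purely inseparable. -/
theorem exists_finrank_pow {X Y : Scheme.{u}} [IsIntegral X] [IsIntegral Y] [FrobSch.IsCharP X p]
    [FrobSch.IsCharP Y p]
    (f : X ⟶ Y) [LocallyOfFiniteType f] (hf : FlatMor.IsUnivHomeo f)
    (e : f (genericPoint X) = genericPoint Y) :
    ∃ n : ℕ, @Module.finrank Y.functionField X.functionField _ _
        (ffMap f e).hom.toAlgebra.toModule = p ^ n ∧
      ∀ z : X.functionField, z ^ p ^ n ∈ Set.range (ffMap f e) := by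
  letI := (ffMap f e).hom.toAlgebra
  haveI : CharP Y.functionField p := by
    refine (CharP.charP_iff_prime_eq_zero hp.out).2 ?_
    have := congrArg (Y.presheaf.germ ⊤ (genericPoint Y) trivial)
      (FrobSch.IsCharP.natCast_eq_zero (X := Y) (p := p))
    simpa using this
  have hexp : ExpChar Y.functionField p := ExpChar.prime hp.out
  have : IsIso (Y.presheaf.stalkSpecializes (specializes_of_eq e)) :=
    ⟨Y.presheaf.stalkSpecializes (specializes_of_eq e.symm), by simp, by simp⟩
  have hess : Algebra.EssFiniteType Y.functionField X.functionField := by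
    rw [← RingHom.essFiniteType_algebraMap]
    exact (RingHom.EssFiniteType.respectsIso.cancel_left_isIso _ _).2
      (LocallyOfFiniteType.stalkMap f (genericPoint X))
  have hres : Function.Injective (X.residue (genericPoint X)) :=
    RingHom.injective (R := X.functionField) (X.residue (genericPoint X)).hom
  have hPI : IsPurelyInseparable Y.functionField X.functionField := by
    rw [isPurelyInseparable_iff_pow_mem Y.functionField p]
    intro z
    letI := (f.residueFieldMap (genericPoint X)).hom.toAlgebra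
    haveI : IsPurelyInseparable (Y.residueField (f (genericPoint X)))
        (X.residueField (genericPoint X)) := Var76.FrobHomeo.residue_isPurelyInseparable hf _
    haveI : CharP (Y.residueField (f (genericPoint X))) p :=
      charP_of_injective_ringHom ((Y.residue (f (genericPoint X))).hom.comp
        (Y.presheaf.stalkSpecializes (specializes_of_eq e)).hom).injective p
    haveI : ExpChar (Y.residueField (f (genericPoint X))) p := ExpChar.prime hp.out
    obtain ⟨m, c, hc⟩ := IsPurelyInseparable.pow_mem (Y.residueField (f (genericPoint X))) p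
      (X.residue (genericPoint X) z)
    obtain ⟨c, rfl⟩ := Y.residue_surjective (f (genericPoint X)) c
    refine ⟨m, (Y.presheaf.stalkSpecializes (specializes_of_eq e.symm)) c, hres ?_⟩
    rw [map_pow, ← hc]
    show X.residue _ (ffMap f e _) = f.residueFieldMap (genericPoint X) (Y.residue _ c)
    rw [← ConcreteCategory.comp_apply (Y.residue _), Scheme.residue_residueFieldMap]
    show X.residue _ (f.stalkMap _ (Y.presheaf.stalkSpecializes _ (Y.presheaf.stalkSpecializes _ c))) =
      X.residue _ (f.stalkMap _ c)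
    congr 2
    rw [← ConcreteCategory.comp_apply, TopCat.Presheaf.stalkSpecializes_comp,
      TopCat.Presheaf.stalkSpecializes_refl]
    rfl
  have : Module.Finite Y.functionField X.functionField :=
    Algebra.finite_of_essFiniteType_of_isAlgebraic
  obtain ⟨n, hn⟩ := IsPurelyInseparable.finrank_eq_pow Y.functionField X.functionField p
  refine ⟨n, hn, fun z => ?_⟩
  obtain ⟨m, y, hm⟩ := IsPurelyInseparable.minpoly_eq_X_pow_sub_C Y.functionField p z
  have hz : algebraMap Y.functionField X.functionField y = z ^ p ^ m := by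
    have := minpoly.aeval Y.functionField z
    rw [hm, map_sub, map_pow, Polynomial.aeval_X, Polynomial.aeval_C, sub_eq_zero] at this
    exact this.symm
  have hd : p ^ m ∣ p ^ n := by
    have := minpoly.degree_dvd (Algebra.IsIntegral.isIntegral (R := Y.functionField) z)
    rwa [hm, Polynomial.natDegree_X_pow_sub_C, hn] at this
  obtain ⟨d, hd⟩ := hd
  exact ⟨y ^ d, by rw [map_pow]; exact (congrArg (· ^ d) hz).trans (by rw [hd, pow_mul])⟩

variable {X Y : Scheme.{u}} [IsIntegral X] [IsIntegral Y] [FrobSch.IsCharP X p]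
  {u : X ⟶ Y} {e : u (genericPoint X) = genericPoint Y} {n : ℕ}

/-- Over a normal affine open, iterated Frobenius factors through `u`. -/
theorem exists_local_factor (hY : Pi1.IsNormalScheme Y) [IsIntegralHom u]
    (hn : ∀ z : X.functionField, z ^ p ^ n ∈ Set.range (ffMap u e))
    {V : Y.Opens} (hV : IsAffineOpen V) [Nonempty V] :
    ∃ w : (V : Scheme.{u}) ⟶ X, (u ∣_ V) ≫ w = (u ⁻¹ᵁ V).ι ≫ FrobSch.frobIter X p n := by
  have hU : IsAffineOpen (u ⁻¹ᵁ V) := hV.preimage u
  have hgY : genericPoint Y ∈ V :=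
    ((genericPoint_spec Y).mem_open_set_iff V.isOpen).mpr (by simpa using ‹Nonempty V›)
  haveI : Nonempty (u ⁻¹ᵁ V : X.Opens) := ⟨⟨genericPoint X, by
    show u (genericPoint X) ∈ V
    rw [e]; exact hgY⟩⟩
  haveI := functionField_isFractionRing_of_isAffineOpen Y V hV
  haveI := EGA73.isIntegrallyClosed_sections hY hV
  have hinj : Function.Injective (u.app V) := fun a b h => by
    refine Y.germToFunctionField_injective V (RingHom.injective (ffMap u e).hom ?_)
    exact (germ_ffMap u e V a).trans ((congrArg _ h).trans (germ_ffMap u e V b).symm)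
  let π := (FrobSch.frobIter X p n).appLE (u ⁻¹ᵁ V) (u ⁻¹ᵁ V) (le_frobIter_preimage X n _)
  have hmem : ∀ s, π s ∈ (u.app V).hom.range := fun s => by
    obtain ⟨c, hc⟩ := hn (X.germToFunctionField (u ⁻¹ᵁ V) s)
    obtain ⟨P, hP, hPs⟩ := (IsIntegralHom.isIntegral_app u V hV (s ^ p ^ n) :
      (u.app V).hom.IsIntegralElem (s ^ p ^ n))
    have hint : IsIntegral Γ(Y, V) c := by
      refine ⟨P, hP, RingHom.injective (ffMap u e).hom ?_⟩
      rw [map_zero, Polynomial.hom_eval₂]
      have h1 : (ffMap u e).hom.comp (algebraMap Γ(Y, V) Y.functionField) =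
          (X.germToFunctionField (u ⁻¹ᵁ V)).hom.comp (u.app V).hom :=
        RingHom.ext fun a => germ_ffMap u e V a
      rw [h1, hc, ← map_pow, ← Polynomial.hom_eval₂, hPs, map_zero]
    obtain ⟨t, ht⟩ := IsIntegrallyClosed.isIntegral_iff.mp hint
    refine ⟨t, X.germToFunctionField_injective (u ⁻¹ᵁ V) ?_⟩
    show _ = X.germToFunctionField (u ⁻¹ᵁ V) (π s)
    rw [show π s = s ^ p ^ n from frobIter_appLE X n _ s, map_pow, ← hc, ← ht]
    exact (germ_ffMap u e V t).symm
  let E := RingEquiv.ofBijective (u.app V).hom.rangeRestrict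
    ⟨fun x y h => hinj (congrArg Subtype.val h), RingHom.rangeRestrict_surjective _⟩
  let ψ : Γ(X, u ⁻¹ᵁ V) ⟶ Γ(Y, V) :=
    CommRingCat.ofHom (E.symm.toRingHom.comp (π.hom.codRestrict _ hmem))
  have hψ : ψ ≫ u.appLE V (u ⁻¹ᵁ V) (le_refl _) = π := by
    ext s
    rw [← Scheme.Hom.app_eq_appLE]
    exact congrArg Subtype.val (E.apply_symm_apply ⟨π s, hmem s⟩)
  refine ⟨hV.isoSpec.hom ≫ Spec.map ψ ≫ hU.fromSpec, ?_⟩
  rw [← cancel_epi hU.isoSpec.inv]
  have h2 : hU.isoSpec.inv ≫ (u ∣_ V) ≫ hV.isoSpec.hom =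
      Spec.map (u.appLE V (u ⁻¹ᵁ V) (le_refl _)) := by
    rw [← cancel_mono hV.fromSpec]
    simp only [Category.assoc, IsAffineOpen.isoSpec_hom_fromSpec, morphismRestrict_ι,
      IsAffineOpen.SpecMap_appLE_fromSpec _ hV hU, IsAffineOpen.isoSpec_inv_ι_assoc]
  have h3 := congrArg (· ≫ Spec.map ψ ≫ hU.fromSpec) h2
  simp only [Category.assoc] at h3
  rw [h3, ← Spec.map_comp_assoc, hψ, IsAffineOpen.SpecMap_appLE_fromSpec,
    ← IsAffineOpen.isoSpec_inv_ι, Category.assoc]

/-- Iterated Frobenius factors through `u` when `Y` is normal. -/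
theorem exists_factor_frobIter (hY : Pi1.IsNormalScheme Y) [X.IsSeparated] [Surjective u]
    [IsIntegralHom u] (hn : ∀ z : X.functionField, z ^ p ^ n ∈ Set.range (ffMap u e)) :
    ∃ w : Y ⟶ X, u ≫ w = FrobSch.frobIter X p n := by
  let ι := {V : Y.affineOpens // (V.1 : Set Y).Nonempty}
  haveI : ∀ i : ι, Nonempty i.1.1 := fun i => i.2.to_subtype
  choose w hw using fun i : ι => exists_local_factor (e := e) hY hn i.1.2
  have hW : (⨆ i : ι, i.1.1) = ⊤ := eq_top_iff.2 fun y _ => by
    obtain ⟨V, hV, hy, -⟩ := exists_isAffineOpen_mem_and_subset (x := y) (U := ⊤) trivial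
    exact TopologicalSpace.Opens.mem_iSup.2 ⟨⟨⟨V, hV⟩, y, hy⟩, hy⟩
  let 𝒰 := Scheme.openCoverOfIsOpenCover Y (fun i : ι => i.1.1) hW
  have key : ∀ (i : ι) (Z : Scheme.{u}) (a : Z ⟶ (i.1.1 : Scheme.{u})) (b : Z ⟶ X),
      b ≫ u = a ≫ i.1.1.ι → a ≫ w i = b ≫ FrobSch.frobIter X p n := fun i Z a b h => by
    obtain ⟨l, hl1, hl2⟩ : ∃ l : Z ⟶ (u ⁻¹ᵁ i.1.1 : X.Opens), l ≫ (u ∣_ i.1.1) = a ∧
        l ≫ (u ⁻¹ᵁ i.1.1).ι = b :=
      (isPullback_morphismRestrict u i.1.1).exists_lift a b h.symm
    exact ((hl1 ▸ Category.assoc l (u ∣_ i.1.1) (w i)).trans (congrArg (l ≫ ·) (hw i))).trans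
      ((Category.assoc _ _ _).symm.trans (congrArg (· ≫ _) hl2))
  have hcompat : ∀ i j, pullback.fst (𝒰.f i) (𝒰.f j) ≫ w i = pullback.snd _ _ ≫ w j := fun i j => by
    let t := pullback.fst (𝒰.f i) (𝒰.f j) ≫ 𝒰.f i
    haveI : IsReduced (pullback (𝒰.f i) (𝒰.f j)) := isReduced_of_isOpenImmersion t
    refine ext_of_isDominant (pullback.snd u t) ?_
    refine ((Category.assoc _ _ _).symm.trans (key i _ _ (pullback.fst u t) ?_)).trans
      ((Category.assoc _ _ _).symm.trans (key j _ _ (pullback.fst u t) ?_)).symm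
    · exact pullback.condition.trans (Category.assoc _ _ _).symm
    · exact (pullback.condition.trans (congrArg (_ ≫ ·) (pullback.condition (f := 𝒰.f i) (g := 𝒰.f j)))).trans
        (Category.assoc _ _ _).symm
  refine ⟨𝒰.glueMorphisms w hcompat, ?_⟩
  refine Scheme.Cover.hom_ext (𝒰.pullback₁ u) _ _ fun i => ?_
  show pullback.fst u (𝒰.f i) ≫ _ = pullback.fst u (𝒰.f i) ≫ _
  refine ((Category.assoc _ _ _).symm.trans (congrArg (· ≫ _) pullback.condition)).trans ?_
  refine (Category.assoc _ _ _).trans ?_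
  rw [Scheme.Cover.ι_glueMorphisms]
  exact key i _ (pullback.snd u (𝒰.f i)) _ pullback.condition

end Groth.Agent.Frob53
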